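import Cfsg.Agent.Fusion91.Alt.Odd

set_option autoImplicit false

/-! When is a Sylow subgroup of an alternating group abelian. -/

namespace Cfsg.Agent.Fusion91.Alt

open Equiv Equiv.Perm

section Mono

variable {k p : ℕ} [hp : Fact p.Prime]

/-- Block permutations over a cyclic group, times translations. -/
def mono (c : Perm (Fin k)) : Subgroup (Perm (Blk k p)) where
  carrier := {f | ∃ (i : ℤ) (v : Fin k → ZMod p), f = liftB (c ^ i) * shift v}
  one_mem' := ⟨0, 0, by rw [zpow_zero, map_one, shift_zero, mul_one]⟩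
  mul_mem' := by
    rintro _ _ ⟨i, v, rfl⟩ ⟨i', v', rfl⟩
    refine ⟨i + i', (fun l => v ((c ^ i') l)) + v', ?_⟩
    have e : shift v * liftB (c ^ i') = liftB (c ^ i') * shift (fun l => v ((c ^ i') l)) :=
      Equiv.ext fun x => Prod.ext rfl rfl
    rw [zpow_add, map_mul, mul_assoc (liftB (c ^ i)), ← mul_assoc (shift v), e, ← shift_add]
    simp [mul_assoc]
  inv_mem' := by
    rintro _ ⟨i, v, rfl⟩
    refine ⟨-i, fun l => -v ((c ^ (-i)) l), ?_⟩
    refine inv_eq_of_mul_eq_one_right ?_
    have e : shift v * liftB (c ^ (-i)) = liftB (c ^ (-i)) * shift (fun l => v ((c ^ (-i)) l)) :=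
      Equiv.ext fun x => Prod.ext rfl rfl
    rw [mul_assoc (liftB (c ^ i)), ← mul_assoc (shift v), e, mul_assoc, shift_add, ← mul_assoc,
      ← map_mul, ← zpow_add, add_neg_cancel, zpow_zero, map_one, one_mul,
      show (fun l => v ((c ^ (-i)) l)) + (fun l => -v ((c ^ (-i)) l)) = 0 from
        funext fun l => add_neg_cancel _, shift_zero]

theorem isPGroup_mono {c : Perm (Fin k)} (hc : c ^ p = 1) : IsPGroup p (mono (p := p) c) := by
  rintro ⟨f, i, v, rfl⟩
  refine ⟨2, Subtype.ext ?_⟩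
  show (liftB (c ^ i) * shift v) ^ p ^ 2 = 1
  have key : ∀ N : ℕ, ∃ w, (liftB (c ^ i) * shift v) ^ N = liftB ((c ^ i) ^ N) * shift w := by
    intro N
    induction N with
    | zero => exact ⟨0, by rw [pow_zero, pow_zero, map_one, shift_zero, mul_one]⟩
    | succ N ih =>
      obtain ⟨w, hw⟩ := ih
      refine ⟨(fun l => w ((c ^ i) l)) + v, ?_⟩
      have e : shift w * liftB (c ^ i) = liftB (c ^ i) * shift (fun l => w ((c ^ i) l)) :=
        Equiv.ext fun x => Prod.ext rfl rfl
      rw [pow_succ, hw, pow_succ, map_mul, mul_assoc (liftB ((c ^ i) ^ N)), ← mul_assoc (shift w), e,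
        mul_assoc, shift_add, ← mul_assoc]
  obtain ⟨w, hw⟩ := key p
  have h1 : (c ^ i) ^ p = 1 := by
    rw [← zpow_natCast, ← zpow_mul, mul_comm, zpow_mul, zpow_natCast, hc, one_zpow]
  rw [h1, map_one, one_mul] at hw
  rw [pow_two, pow_mul, hw, shift_pow_p]

theorem shift_injective : Function.Injective (shift : (Fin k → ZMod p) → Perm (Blk k p)) := by
  intro v w h
  funext i
  have := congrArg Prod.snd (Equiv.ext_iff.mp h (i, 0))
  simpa using this

end Mono

variable {n p : ℕ} [hp : Fact p.Prime]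

theorem sylow_isMulCommutative (hodd : Odd p) (hn2 : 2 ≤ n) (hlt : n < p ^ 2)
    (S : Sylow p (alternatingGroup (Fin n))) : IsMulCommutative S := by
  classical
  obtain ⟨ι⟩ : Nonempty (Blk (n / p) p ↪ Fin n) :=
    Function.Embedding.nonempty_of_card_le (by
      rw [Fintype.card_prod, Fintype.card_fin, ZMod.card, Fintype.card_fin]
      exact Nat.div_mul_le_self n p)
  have hcard : Nat.card (baseE ι) = p ^ (n / p) := by
    rw [← Nat.card_congr (Equiv.ofBijective
      (fun v => (⟨shG ι hodd v, v, rfl⟩ : baseE ι)) ⟨fun v w h => ?_, fun x => ?_⟩)]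
    · rw [Nat.card_fun, Nat.card_fin, Nat.card_zmod]
    · exact shift_injective (ext'_inj ι (congrArg (fun z : baseE ι => (z.1 : Perm (Fin n))) h))
    · obtain ⟨g, v, hv⟩ := x
      exact ⟨v, Subtype.ext (Subtype.ext hv.symm)⟩
  haveI : Nontrivial (Fin n) := Fin.nontrivial_iff_two_le.mpr hn2
  have hfac : (Nat.card (alternatingGroup (Fin n))).factorization p = n / p := by
    have h := two_mul_nat_card_alternatingGroup (α := Fin n)
    rw [Nat.card_perm, Nat.card_fin] at h
    have h1 : (2 * Nat.card (alternatingGroup (Fin n))).factorization p = n.factorial.factorization p := by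
      rw [h]
    rw [Nat.factorization_mul two_ne_zero Nat.card_pos.ne', Finsupp.add_apply,
      Nat.Prime.factorization Nat.prime_two, Finsupp.single_apply, if_neg (by
        rintro rfl; exact absurd hodd (by decide)), zero_add,
      Nat.factorization_factorial hp.out (b := 2) (Nat.log_lt_of_lt_pow (by omega) hlt)] at h1
    rw [h1, Nat.Ico_succ_singleton, Finset.sum_singleton, pow_one]
  obtain ⟨R, hR⟩ := (isPGroup_baseE ι).exists_le_sylow
  have hRE : baseE ι = (R : Subgroup (alternatingGroup (Fin n))) := by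
    refine Subgroup.eq_of_le_of_card_ge hR ?_
    rw [hcard, R.card_eq_multiplicity, hfac]
  have hab : ∀ x ∈ baseE ι, ∀ y ∈ baseE ι, x * y = y * x := by
    rintro x ⟨v, hv⟩ y ⟨w, hw⟩
    refine Subtype.ext ?_
    rw [Subgroup.coe_mul, Subgroup.coe_mul, hv, hw, ← map_mul, ← map_mul, shift_add, shift_add,
      add_comm]
  obtain ⟨g, hg⟩ := MulAction.exists_smul_eq (alternatingGroup (Fin n)) R S
  refine ⟨⟨?_⟩⟩
  rintro ⟨x, hx⟩ ⟨y, hy⟩
  rw [← hg] at hx hy
  obtain ⟨x', hx', rfl⟩ := hx
  obtain ⟨y', hy', rfl⟩ := hy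
  refine Subtype.ext ?_
  have h := hab x' (hRE ▸ hx') y' (hRE ▸ hy')
  show g * x' * g⁻¹ * (g * y' * g⁻¹) = g * y' * g⁻¹ * (g * x' * g⁻¹)
  calc g * x' * g⁻¹ * (g * y' * g⁻¹) = g * (x' * y') * g⁻¹ := by group
    _ = g * (y' * x') * g⁻¹ := by rw [h]
    _ = _ := by group

theorem not_sylow_isMulCommutative (hn : 6 ≤ n) (hle : p ^ 2 ≤ n)
    (S : Sylow p (alternatingGroup (Fin n))) : ¬ IsMulCommutative S := by
  classical
  intro hS
  have hp0 := hp.out.pos
  have hpk : p ≤ n / p := by
    rw [Nat.le_div_iff_mul_le hp0, ← pow_two]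
    exact hle
  have hk3 : 3 ≤ n / p := by
    rcases hp.out.eq_two_or_odd' with rfl | hodd
    · omega
    · have : p ≠ 2 := by rintro rfl; exact absurd hodd (by decide)
      have := hp.out.two_le
      omega
  obtain ⟨ι⟩ : Nonempty (Blk (n / p) p ↪ Fin n) :=
    Function.Embedding.nonempty_of_card_le (by
      rw [Fintype.card_prod, Fintype.card_fin, ZMod.card, Fintype.card_fin]
      exact Nat.div_mul_le_self n p)
  set i : Fin (n / p) := ⟨0, by omega⟩
  set j : Fin (n / p) := ⟨1, by omega⟩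
  set l : Fin (n / p) := ⟨2, by omega⟩
  have hij : i ≠ j := by simp [i, j]
  have hil : i ≠ l := by simp [i, l]
  have hjl : j ≠ l := by simp [j, l]
  obtain ⟨c, hc, hci⟩ := exists_pow_p_move (p := p) hpk hij
  have hxA : ext' ι (liftB c) ∈ alternatingGroup (Fin n) := by
    rw [Perm.mem_alternatingGroup, ext', Perm.viaEmbeddingHom_apply, Perm.viaEmbedding,
      Perm.sign_extendDomain,
      show (liftB c : Perm (Blk (n / p) p)) = Equiv.prodCongrLeft fun _ => c from Equiv.ext fun _ => rfl,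
      Equiv.Perm.sign_prodCongrLeft, Finset.prod_const, Finset.card_univ, ZMod.card, ← map_pow, hc,
      map_one]
  have hyA : ext' ι (shift (Pi.single i 1 + Pi.single l 1)) ∈ alternatingGroup (Fin n) := by
    have e : shift (Pi.single l (1 : ZMod p)) =
        liftB (Equiv.swap i l) * shift (Pi.single i 1) * (liftB (Equiv.swap i l))⁻¹ := by
      rw [← map_inv, Equiv.swap_inv]
      refine Equiv.ext fun x => Prod.ext ?_ ?_
      · simp [Perm.mul_apply]
      · simp only [Perm.mul_apply, liftB_apply, shift_apply]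
        congr 1
        simp [Pi.single_apply, Equiv.swap_apply_eq_iff]
    rw [Perm.mem_alternatingGroup, ← shift_add, map_mul, map_mul, e, map_mul, map_mul, map_inv,
      map_mul, map_mul, map_inv, mul_comm (Perm.sign (ext' ι (liftB (Equiv.swap i l)))),
      mul_inv_cancel_right, Int.units_mul_self]
  set x : alternatingGroup (Fin n) := ⟨_, hxA⟩
  set y : alternatingGroup (Fin n) := ⟨_, hyA⟩
  set Q : Subgroup (alternatingGroup (Fin n)) :=
    ((mono (p := p) c).map (ext' ι)).subgroupOf (alternatingGroup (Fin n))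
  have hQ : IsPGroup p Q := ((isPGroup_mono hc).map _).comap_of_injective _ Subtype.val_injective
  have hx : x ∈ Q := ⟨liftB c, ⟨1, 0, by rw [zpow_one, shift_zero, mul_one]⟩, rfl⟩
  have hy : y ∈ Q := ⟨_, ⟨0, _, by rw [zpow_zero, map_one, one_mul]⟩, rfl⟩
  obtain ⟨R, hR⟩ := hQ.exists_le_sylow
  obtain ⟨g, hg⟩ := MulAction.exists_smul_eq (alternatingGroup (Fin n)) R S
  have hmem : ∀ z ∈ Q, g * z * g⁻¹ ∈ (S : Subgroup (alternatingGroup (Fin n))) := fun z hz =>
    hg ▸ ⟨z, hR hz, rfl⟩
  have hcomm := congrArg Subtype.val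
    (hS.is_comm.comm ⟨_, hmem x hx⟩ ⟨_, hmem y hy⟩)
  change g * x * g⁻¹ * (g * y * g⁻¹) = g * y * g⁻¹ * (g * x * g⁻¹) at hcomm
  have h2 : x * y = y * x := by
    have h3 : g * (x * y) * g⁻¹ = g * (y * x) * g⁻¹ := by
      calc g * (x * y) * g⁻¹ = g * x * g⁻¹ * (g * y * g⁻¹) := by group
        _ = g * y * g⁻¹ * (g * x * g⁻¹) := hcomm
        _ = g * (y * x) * g⁻¹ := by group
    exact mul_left_cancel (mul_right_cancel h3)
  have h4 := congrArg (fun z : alternatingGroup (Fin n) => (z : Perm (Fin n)) (ι (i, 0))) h2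
  simp only [x, y, Subgroup.coe_mul, Perm.mul_apply, ext'_in, shift_apply, liftB_apply,
    Pi.add_apply] at h4
  have h5 := congrArg Prod.snd (ι.injective h4)
  simp [hci, hij.symm, hjl, hil] at h5

end Cfsg.Agent.Fusion91.Alt
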