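import Mathlib

set_option autoImplicit false

/-! Affine permutations of `k` blocks of size `p`. -/

namespace Cfsg.Agent.Fusion91.Alt

open Equiv Equiv.Perm

variable {p k : ℕ} [hp : Fact p.Prime]

/-- The points: `k` blocks of size `p`. -/
abbrev Blk (k p : ℕ) := Fin k × ZMod p

/-- Translating each block by its own amount. -/
def shift (v : Fin k → ZMod p) : Perm (Blk k p) where
  toFun x := (x.1, x.2 + v x.1)
  invFun x := (x.1, x.2 - v x.1)
  left_inv x := Prod.ext rfl (add_sub_cancel_right _ _)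
  right_inv x := Prod.ext rfl (sub_add_cancel _ _)

/-- Multiplying in each block by its own factor. -/
def mulB (a : Fin k → (ZMod p)ˣ) : Perm (Blk k p) where
  toFun x := (x.1, a x.1 * x.2)
  invFun x := (x.1, (((a x.1)⁻¹ : (ZMod p)ˣ) : ZMod p) * x.2)
  left_inv x := Prod.ext rfl (by
    show (((a x.1)⁻¹ : (ZMod p)ˣ) : ZMod p) * ((a x.1 : ZMod p) * x.2) = x.2
    rw [← mul_assoc, Units.inv_mul, one_mul])
  right_inv x := Prod.ext rfl (by
    show (a x.1 : ZMod p) * ((((a x.1)⁻¹ : (ZMod p)ˣ) : ZMod p) * x.2) = x.2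
    rw [← mul_assoc, Units.mul_inv, one_mul])

/-- Permuting the blocks. -/
def liftB : Perm (Fin k) →* Perm (Blk k p) where
  toFun σ := ⟨fun x => (σ x.1, x.2), fun x => (σ.symm x.1, x.2),
    fun x => by simp, fun x => by simp⟩
  map_one' := Equiv.ext fun _ => rfl
  map_mul' _ _ := Equiv.ext fun _ => rfl

@[simp] theorem shift_apply (v : Fin k → ZMod p) (x : Blk k p) : shift v x = (x.1, x.2 + v x.1) := rfl

@[simp] theorem mulB_apply (a : Fin k → (ZMod p)ˣ) (x : Blk k p) : mulB a x = (x.1, a x.1 * x.2) :=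
  rfl

@[simp] theorem liftB_apply (σ : Perm (Fin k)) (x : Blk k p) : liftB σ x = (σ x.1, x.2) := rfl

theorem shift_add (v w : Fin k → ZMod p) : shift v * shift w = shift (v + w) :=
  Equiv.ext fun x => Prod.ext rfl (by simp [Perm.mul_apply]; ring)

theorem shift_zero : shift (0 : Fin k → ZMod p) = 1 :=
  Equiv.ext fun x => Prod.ext rfl (by simp)

theorem shift_inv (v : Fin k → ZMod p) : (shift v)⁻¹ = shift (-v) := by
  refine inv_eq_of_mul_eq_one_right ?_
  rw [shift_add, add_neg_cancel, shift_zero]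

theorem shift_pow (v : Fin k → ZMod p) (n : ℕ) : shift v ^ n = shift (n • v) := by
  induction n with
  | zero => rw [pow_zero, zero_smul, shift_zero]
  | succ n ih => rw [pow_succ, ih, shift_add, succ_nsmul]

theorem shift_pow_p (v : Fin k → ZMod p) : shift v ^ p = 1 := by
  rw [shift_pow, show p • v = 0 from funext fun i => by
    rw [Pi.smul_apply, nsmul_eq_mul, ZMod.natCast_self, zero_mul, Pi.zero_apply], shift_zero]

theorem mulB_mul (a b : Fin k → (ZMod p)ˣ) : mulB a * mulB b = mulB (a * b) :=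
  Equiv.ext fun x => Prod.ext rfl (by simp [Perm.mul_apply, mul_assoc])

theorem mulB_one : mulB (1 : Fin k → (ZMod p)ˣ) = 1 :=
  Equiv.ext fun x => Prod.ext rfl (by simp)

theorem mulB_inv (a : Fin k → (ZMod p)ˣ) : (mulB a)⁻¹ = mulB a⁻¹ := by
  refine inv_eq_of_mul_eq_one_right ?_
  rw [mulB_mul, mul_inv_cancel, mulB_one]

theorem mulB_conj_liftB (a : Fin k → (ZMod p)ˣ) (c : Perm (Fin k)) :
    liftB c * (mulB a * (liftB c)⁻¹ * (mulB a)⁻¹) = mulB (fun i => a (c⁻¹ i) * (a i)⁻¹) := by
  rw [← map_inv, mulB_inv]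
  refine Equiv.ext fun x => Prod.ext ?_ ?_
  · simp only [Perm.mul_apply, mulB_apply, liftB_apply]
    exact c.apply_symm_apply _
  · simp only [Perm.mul_apply, mulB_apply, liftB_apply, Pi.inv_apply, Units.val_mul]
    ring

/-- General elements of the normalizer of the translations. -/
theorem affine_conj_shift (σ : Perm (Fin k)) (a : Fin k → (ZMod p)ˣ) (v w : Fin k → ZMod p) :
    (liftB σ * mulB a * shift v) * shift w =
      shift (fun i => (a (σ⁻¹ i) : ZMod p) * w (σ⁻¹ i)) * (liftB σ * mulB a * shift v) :=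
  Equiv.ext fun x => Prod.ext rfl (by simp [Perm.mul_apply]; ring)

theorem affine_conj_shift' (σ : Perm (Fin k)) (a : Fin k → (ZMod p)ˣ) (v w : Fin k → ZMod p) :
    (liftB σ * mulB a * shift v) * shift w * (liftB σ * mulB a * shift v)⁻¹ =
      shift (fun i => (a (σ⁻¹ i) : ZMod p) * w (σ⁻¹ i)) := by
  rw [affine_conj_shift, mul_inv_cancel_right]

theorem units_eq_one_of_pow (a : (ZMod p)ˣ) {m : ℕ} (h : a ^ p ^ m = 1) : a = 1 := by
  apply Units.ext
  have key : ∀ m : ℕ, (a : ZMod p) ^ p ^ m = a := by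
    intro m
    induction m with
    | zero => rw [pow_zero, pow_one]
    | succ m ih => rw [pow_succ, pow_mul, ih, ZMod.pow_card]
  rw [← key m, ← Units.val_pow_eq_pow_val, h]

variable (κ : ZMod p ↪ Fin k)

/-- The square block spanned by `p` blocks. -/
def sq : ZMod p × ZMod p ↪ Blk k p :=
  ⟨fun z => (κ z.1, z.2), fun z w h =>
    Prod.ext (κ.injective (congrArg Prod.fst h)) (congrArg Prod.snd h :)⟩

/-- Extension of a permutation of the square block. -/
noncomputable def zext : Perm (ZMod p × ZMod p) →* Perm (Blk k p) := Perm.viaEmbeddingHom (sq κ)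

theorem zext_in (f : Perm (ZMod p × ZMod p)) (s t : ZMod p) :
    zext κ f (κ s, t) = (κ (f (s, t)).1, (f (s, t)).2) :=
  Perm.viaEmbedding_apply f (sq κ) (s, t)

theorem zext_out (f : Perm (ZMod p × ZMod p)) {x : Blk k p} (hx : x.1 ∉ Set.range κ) :
    zext κ f x = x :=
  Perm.viaEmbedding_apply_of_notMem f (sq κ) x fun ⟨z, hz⟩ => hx ⟨z.1, congrArg Prod.fst hz⟩

theorem blk_cases (x : Blk k p) : (∃ s t, x = (κ s, t)) ∨ x.1 ∉ Set.range κ := by
  by_cases h : x.1 ∈ Set.range κ
  · obtain ⟨s, hs⟩ := h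
    exact Or.inl ⟨s, x.2, Prod.ext hs.symm rfl⟩
  · exact Or.inr h

theorem zext_comm_shift (f : Perm (ZMod p × ZMod p)) {v : Fin k → ZMod p}
    (hv : ∀ s, v (κ s) = 0) : Commute (zext κ f) (shift v) := by
  refine Equiv.ext fun x => ?_
  rw [Perm.mul_apply, Perm.mul_apply]
  rcases blk_cases κ x with ⟨s, t, rfl⟩ | hx
  · rw [zext_in, shift_apply, shift_apply]
    simp [hv, zext_in]
  · rw [zext_out κ f hx, zext_out κ f]
    simpa using hx

/-- Translation of the square block. -/
def addZ (w : ZMod p × ZMod p) : Perm (ZMod p × ZMod p) := Equiv.addRight w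

@[simp] theorem addZ_apply (w z : ZMod p × ZMod p) : addZ w z = z + w := rfl

theorem addZ_add (w w' : ZMod p × ZMod p) : addZ w * addZ w' = addZ (w + w') :=
  Equiv.ext fun z => by simp [Perm.mul_apply]; abel

theorem addZ_pow (w : ZMod p × ZMod p) (n : ℕ) : addZ w ^ n = addZ (n • w) := by
  induction n with
  | zero => exact Equiv.ext fun z => by simp
  | succ n ih => rw [pow_succ, ih, addZ_add, succ_nsmul]

/-- The shear in the first coordinate. -/
def shearX (c : ZMod p) : Perm (ZMod p × ZMod p) where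
  toFun z := (z.1 + c * z.2, z.2)
  invFun z := (z.1 - c * z.2, z.2)
  left_inv z := by simp
  right_inv z := by simp

/-- The shear in the second coordinate. -/
def shearY (c : ZMod p) : Perm (ZMod p × ZMod p) where
  toFun z := (z.1, z.2 + c * z.1)
  invFun z := (z.1, z.2 - c * z.1)
  left_inv z := by simp
  right_inv z := by simp

@[simp] theorem shearX_apply (c : ZMod p) (z : ZMod p × ZMod p) :
    shearX c z = (z.1 + c * z.2, z.2) := rfl

@[simp] theorem shearY_apply (c : ZMod p) (z : ZMod p × ZMod p) :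
    shearY c z = (z.1, z.2 + c * z.1) := rfl

theorem shearX_pow (c : ZMod p) : shearX c ^ p = 1 := by
  have key : ∀ n : ℕ, shearX c ^ n = shearX ((n : ZMod p) * c) := by
    intro n
    induction n with
    | zero => exact Equiv.ext fun z => by simp
    | succ n ih =>
      rw [pow_succ, ih]
      exact Equiv.ext fun z => Prod.ext (by simp [Perm.mul_apply]; ring) rfl
  rw [key, ZMod.natCast_self, zero_mul]
  exact Equiv.ext fun z => by simp

theorem shearY_pow (c : ZMod p) : shearY c ^ p = 1 := by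
  have key : ∀ n : ℕ, shearY c ^ n = shearY ((n : ZMod p) * c) := by
    intro n
    induction n with
    | zero => exact Equiv.ext fun z => by simp
    | succ n ih =>
      rw [pow_succ, ih]
      exact Equiv.ext fun z => Prod.ext rfl (by simp [Perm.mul_apply]; ring)
  rw [key, ZMod.natCast_self, zero_mul]
  exact Equiv.ext fun z => by simp

theorem shearX_addZ (c : ZMod p) (w : ZMod p × ZMod p) :
    shearX c * addZ w = addZ (shearX c w) * shearX c :=
  Equiv.ext fun z => Prod.ext (by simp [Perm.mul_apply]; ring) (by simp [Perm.mul_apply])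

theorem shearY_addZ (c : ZMod p) (w : ZMod p × ZMod p) :
    shearY c * addZ w = addZ (shearY c w) * shearY c :=
  Equiv.ext fun z => Prod.ext (by simp [Perm.mul_apply]) (by simp [Perm.mul_apply]; ring)

/-- The diagonal element of determinant one. -/
def diagZ (a : (ZMod p)ˣ) : Perm (ZMod p × ZMod p) :=
  shearX (a : ZMod p) * shearY (-((a⁻¹ : (ZMod p)ˣ) : ZMod p)) * shearX (a : ZMod p) *
    shearX (-1) * shearY 1 * shearX (-1)

theorem diagZ_apply (a : (ZMod p)ˣ) (z : ZMod p × ZMod p) :
    diagZ a z = (a * z.1, ((a⁻¹ : (ZMod p)ˣ) : ZMod p) * z.2) := by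
  simp only [diagZ, Perm.mul_apply, shearX_apply, shearY_apply]
  have h : (a : ZMod p) * ((a⁻¹ : (ZMod p)ˣ) : ZMod p) = 1 := Units.mul_inv a
  refine Prod.ext ?_ ?_
  · simp only
    linear_combination (z.2 - z.1 * (a : ZMod p)) * h
  · simp only
    linear_combination (-z.1) * h

end Cfsg.Agent.Fusion91.Alt
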