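import Cfsg.Agent.Fusion91.Alt.Reduce
import Cfsg.Agent.Fusion91.TwoLocal

set_option autoImplicit false

/-! A Sylow subgroup of an alternating group of large degree has no proper strongly closed subgroup. -/

namespace Cfsg.Agent.Fusion91.Alt

open Equiv Equiv.Perm

variable {α : Type*} [Fintype α] [DecidableEq α]

/-- Conjugacy in the alternating group from conjugacy in the symmetric group. -/
theorem isConj_alt {σ τ : alternatingGroup α} (h : IsConj (σ : Perm α) (τ : Perm α))
    (hodd : ¬ Subgroup.centralizer {(σ : Perm α)} ≤ alternatingGroup α) : IsConj σ τ := by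
  obtain ⟨π, hπ⟩ := isConj_iff.mp h
  obtain ⟨w, hw, hwodd⟩ := SetLike.not_le_iff_exists.mp hodd
  rcases Int.units_eq_one_or (Perm.sign π) with hs | hs
  · exact isConj_iff.mpr ⟨⟨π, Perm.mem_alternatingGroup.mpr hs⟩, Subtype.ext hπ⟩
  · have hws : Perm.sign w = -1 := by
      rcases Int.units_eq_one_or (Perm.sign w) with e | e
      · exact absurd (Perm.mem_alternatingGroup.mpr e) hwodd
      · exact e
    refine isConj_iff.mpr ⟨⟨π * w, Perm.mem_alternatingGroup.mpr (by rw [map_mul, hs, hws]; simp)⟩,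
      Subtype.ext ?_⟩
    show π * w * σ.1 * (π * w)⁻¹ = τ.1
    have hc : w * σ.1 = σ.1 * w := (Subgroup.mem_centralizer_singleton_iff.mp hw).symm ▸ rfl
    rw [_root_.mul_inv_rev, mul_assoc π w, hc, ← hπ]
    simp [mul_assoc]

section Core

variable {p : ℕ} [hp : Fact p.Prime] {S T : Subgroup (alternatingGroup α)}

/-- Being conjugate to an element of `T`. -/
def Into (T : Subgroup (alternatingGroup α)) (x : alternatingGroup α) : Prop :=
  ∃ g : alternatingGroup α, g * x * g⁻¹ ∈ T

theorem into_conj {x y : alternatingGroup α} (h : IsConj x y) (hx : Into T x) : Into T y := by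
  obtain ⟨c, rfl⟩ := isConj_iff.mp h
  obtain ⟨g, hg⟩ := hx
  exact ⟨g * c⁻¹, by simpa [mul_assoc] using hg⟩

theorem into_inv {x : alternatingGroup α} (hx : Into T x) : Into T x⁻¹ := by
  obtain ⟨g, hg⟩ := hx
  exact ⟨g, by simpa [mul_assoc] using inv_mem hg⟩

theorem mem_of_into (hcl : ∀ x ∈ T, ∀ a : alternatingGroup α, a * x * a⁻¹ ∈ S → a * x * a⁻¹ ∈ T)
    {x : alternatingGroup α} (hxS : x ∈ S) (hx : Into T x) : x ∈ T := by
  obtain ⟨g, hg⟩ := hx
  have h := hcl _ hg g⁻¹
  simp only [mul_assoc, inv_mul_cancel_left, inv_inv, inv_mul_cancel, mul_one] at h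
  exact h hxS

theorem into_mul (P : Sylow p (alternatingGroup α))
    (hcl : ∀ x ∈ T, ∀ a : alternatingGroup α,
      a * x * a⁻¹ ∈ (P : Subgroup _) → a * x * a⁻¹ ∈ T)
    {Q : Subgroup (alternatingGroup α)} (hQ : IsPGroup p Q) {a b : alternatingGroup α}
    (ha : a ∈ Q) (hb : b ∈ Q) (hia : Into T a) (hib : Into T b) : Into T (a * b) := by
  obtain ⟨R, hR⟩ := hQ.exists_le_sylow
  obtain ⟨g, hg⟩ := MulAction.exists_smul_eq (alternatingGroup α) R P
  have hmem : ∀ x ∈ Q, g * x * g⁻¹ ∈ (P : Subgroup _) := by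
    intro x hx
    rw [← hg, Sylow.coe_subgroup_smul]
    exact ⟨x, hR hx, rfl⟩
  have hT : ∀ x ∈ Q, Into T x → g * x * g⁻¹ ∈ T := fun x hx hi =>
    mem_of_into hcl (hmem x hx) (into_conj (isConj_iff.mpr ⟨g, rfl⟩) hi)
  exact ⟨g, by
    rw [show g * (a * b) * g⁻¹ = (g * a * g⁻¹) * (g * b * g⁻¹) by group]
    exact mul_mem (hT a ha hia) (hT b hb hib)⟩

theorem into_mul_of_commute (P : Sylow p (alternatingGroup α))
    (hcl : ∀ x ∈ T, ∀ a : alternatingGroup α,
      a * x * a⁻¹ ∈ (P : Subgroup _) → a * x * a⁻¹ ∈ T)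
    {a b : alternatingGroup α} (hap : a ^ p = 1) (hbp : b ^ p = 1) (hc : Commute a b)
    (hia : Into T a) (hib : Into T b) : Into T (a * b) := by
  have hz : ∀ x : alternatingGroup α, x ^ p = 1 → IsPGroup p (Subgroup.zpowers x) := by
    intro x hx y
    obtain ⟨i, hi⟩ := Subgroup.mem_zpowers_iff.mp y.2
    refine ⟨1, Subtype.ext ?_⟩
    rw [pow_one, SubmonoidClass.coe_pow, ← hi, OneMemClass.coe_one, ← zpow_natCast, ← zpow_mul,
      mul_comm, zpow_mul, zpow_natCast, hx, one_zpow]
  have hle : Subgroup.zpowers a ≤ Subgroup.normalizer ((Subgroup.zpowers b : Subgroup _) : Set _) := by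
    refine Subgroup.zpowers_le.mpr (Subgroup.mem_normalizer_iff.mpr fun y => ⟨fun hy => ?_, fun hy => ?_⟩)
    · obtain ⟨i, rfl⟩ := Subgroup.mem_zpowers_iff.mp hy
      exact ⟨i, by rw [(hc.zpow_right i).eq, mul_inv_cancel_right]⟩
    · obtain ⟨i, hi⟩ := Subgroup.mem_zpowers_iff.mp hy
      refine ⟨i, mul_left_cancel (a := a) (mul_right_cancel (b := a⁻¹) ?_)⟩
      rw [← hi, (hc.zpow_right i).eq, mul_inv_cancel_right]
  exact into_mul P hcl ((hz a hap).to_sup_of_normal_right' (hz b hbp) hle)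
    (Subgroup.mem_sup_left (Subgroup.mem_zpowers a)) (Subgroup.mem_sup_right (Subgroup.mem_zpowers b))
    hia hib

omit [Fintype α] in
theorem coe_pow_eq_one {x : Perm α} {n : ℕ} (h : x ^ n = 1) (hx : Odd n) [Fintype α] :
    x ∈ alternatingGroup α := by
  have h1 : (Perm.sign x) ^ n = 1 := by rw [← map_pow, h, map_one]
  rcases Int.units_eq_one_or (Perm.sign x) with e | e
  · exact Perm.mem_alternatingGroup.mpr e
  · rw [e, hx.neg_one_pow] at h1
    exact absurd h1 (by decide)

/-- All elements of order `p` are conjugate into `T`, for `p` odd. -/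
theorem into_of_pow_eq_one_odd (P : Sylow p (alternatingGroup α)) (hodd : Odd p)
    (hn : p + 2 ≤ Fintype.card α)
    (hcl : ∀ x ∈ T, ∀ a : alternatingGroup α,
      a * x * a⁻¹ ∈ (P : Subgroup _) → a * x * a⁻¹ ∈ T)
    {t : alternatingGroup α} (ht : t ∈ T) (ht1 : t ≠ 1) (htp : t ^ p = 1) :
    ∀ x : alternatingGroup α, x ^ p = 1 → Into T x := by
  have htp' : (t : Perm α) ^ p = 1 := congrArg Subtype.val htp
  have hnle : ∀ σ : Perm α, σ ^ p = 1 → σ ≠ 1 →
      ¬ Subgroup.centralizer {σ} ≤ alternatingGroup α := by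
    intro σ hσ hσ1 h
    obtain ⟨-, hsum, hcount⟩ := centralizer_le_alternating_iff.mp h
    have hmem : ∀ c ∈ σ.cycleType, c = p := fun c hc => by
      have h1 := dvd_trans (dvd_of_mem_cycleType hc) (orderOf_dvd_of_pow_eq_one hσ)
      rcases (Nat.dvd_prime hp.out).mp h1 with e | e
      · exact absurd e (Nat.ne_of_gt (one_lt_of_mem_cycleType hc))
      · exact e
    rw [Multiset.eq_replicate_card.mpr hmem, Multiset.sum_replicate, smul_eq_mul] at hsum
    have h3 := hcount p
    rw [Multiset.eq_replicate_card.mpr hmem, Multiset.count_replicate_self] at h3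
    have h4 : Multiset.card σ.cycleType * p ≤ 1 * p := Nat.mul_le_mul_right p h3
    omega
  -- a single cycle
  obtain ⟨c, hcmem⟩ : (t : Perm α).cycleFactorsFinset.Nonempty := by
    rw [Finset.nonempty_iff_ne_empty, Ne, cycleFactorsFinset_eq_empty_iff]
    exact fun e => ht1 (Subtype.ext e)
  have hcyc : c.IsCycle := (mem_cycleFactorsFinset_iff.mp hcmem).1
  set r := (t : Perm α) * c⁻¹ with hr
  have hd : r.Disjoint c := disjoint_mul_inv_of_mem_cycleFactorsFinset hcmem
  have htr : (t : Perm α) = r * c := by rw [hr, inv_mul_cancel_right]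
  obtain ⟨hrp, hcp⟩ := (hd.pow_disjoint_pow p p).mul_eq_one_iff.mp
    (by rw [← hd.commute.mul_pow, ← htr, htp'])
  have hcop : Nat.Coprime 2 (orderOf c) := by
    rw [orderOf_eq_prime hcp hcyc.ne_one, Nat.coprime_two_left]
    exact hodd
  have hc2 : (c ^ 2).support = c.support := Perm.support_pow_coprime hcop
  have hc2cyc : (c ^ 2).IsCycle := by
    refine hcyc.pow_iff.mpr ?_
    exact hcop
  have hd2 : r.Disjoint (c ^ 2) := hd.mono le_rfl hc2.le
  set t' : alternatingGroup α := ⟨r * c ^ 2,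
    mul_mem (coe_pow_eq_one hrp hodd) (pow_mem (coe_pow_eq_one hcp hodd) 2)⟩ with ht'
  have htt' : IsConj t t' := by
    refine isConj_alt (isConj_of_cycleType_eq ?_) (hnle _ htp' fun e => ht1 (Subtype.ext e))
    show (t : Perm α).cycleType = (r * c ^ 2).cycleType
    rw [htr, hd.cycleType_mul, hd2.cycleType_mul, hcyc.cycleType, hc2cyc.cycleType, hc2]
  have hKt : Into T t := ⟨1, by simpa using ht⟩
  have hKc : Into T ⟨c, coe_pow_eq_one hcp hodd⟩ := by
    have e : (⟨c, coe_pow_eq_one hcp hodd⟩ : alternatingGroup α) = t⁻¹ * t' := by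
      refine Subtype.ext ?_
      show c = (t : Perm α)⁻¹ * (r * c ^ 2)
      rw [htr, pow_two, ← mul_assoc r, inv_mul_cancel_left]
    rw [e]
    refine into_mul_of_commute P hcl (by rw [inv_pow, htp, inv_one]) ?_ ?_ (into_inv hKt)
      (into_conj htt' hKt)
    · refine Subtype.ext ?_
      show (r * c ^ 2) ^ p = 1
      rw [hd2.commute.mul_pow, hrp, one_mul, ← pow_mul, mul_comm, pow_mul, hcp, one_pow]
    · refine Commute.inv_left (Subtype.ext ?_)
      show (t : Perm α) * (r * c ^ 2) = r * c ^ 2 * t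
      rw [htr]
      exact ((Commute.refl r).mul_left hd.commute.symm).mul_right
        ((hd.commute.mul_left (Commute.refl c)).pow_right 2)
  intro x hx
  have hx' : (x : Perm α) ^ p = 1 := congrArg Subtype.val hx
  suffices ∀ σ : Perm α, ∀ h : σ ^ p = 1, Into T ⟨σ, coe_pow_eq_one h hodd⟩ from this _ hx'
  intro σ
  induction σ using Perm.cycle_induction_on with
  | base_one =>
    intro _
    refine ⟨1, ?_⟩
    rw [one_mul, inv_one, mul_one]
    exact one_mem T
  | base_cycles σ hσ =>
    intro h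
    refine into_conj (isConj_alt (isConj_of_cycleType_eq ?_) (hnle _ hcp hcyc.ne_one)) hKc
    show c.cycleType = σ.cycleType
    rw [hcyc.cycleType, hσ.cycleType, ← hcyc.orderOf, ← hσ.orderOf,
      orderOf_eq_prime h hσ.ne_one, orderOf_eq_prime hcp hcyc.ne_one]
  | induction_disjoint σ τ hd hσ iσ iτ =>
    intro h
    obtain ⟨h1, h2⟩ := (hd.pow_disjoint_pow p p).mul_eq_one_iff.mp
      (by rw [← hd.commute.mul_pow, h])
    exact into_mul_of_commute P hcl (a := ⟨σ, coe_pow_eq_one h1 hodd⟩)
      (b := ⟨τ, coe_pow_eq_one h2 hodd⟩) (Subtype.ext h1) (Subtype.ext h2)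
      (Subtype.ext hd.commute.eq) (iσ h1) (iτ h2)

theorem exists_swap_pair {σ : Perm α} (hσ : σ ^ 2 = 1) (hs : Perm.sign σ = 1) (h1 : σ ≠ 1) :
    ∃ a b c d : α, [a, b, c, d].Nodup ∧ σ a = b ∧ σ b = a ∧ σ c = d ∧ σ d = c := by
  have hinv : ∀ t, σ (σ t) = t := fun t => by
    rw [← Perm.mul_apply, ← pow_two, hσ, Perm.one_apply]
  obtain ⟨a, ha⟩ := not_forall.mp (fun h => h1 (Equiv.ext h))
  rw [Perm.one_apply] at ha
  obtain ⟨c, hc, hca, hcb⟩ : ∃ c, σ c ≠ c ∧ c ≠ a ∧ c ≠ σ a := by
    by_contra hno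
    push Not at hno
    have : σ = Equiv.swap a (σ a) := by
      refine Equiv.ext fun t => ?_
      rcases eq_or_ne t a with rfl | hta
      · rw [Equiv.swap_apply_left]
      rcases eq_or_ne t (σ a) with rfl | htb
      · rw [Equiv.swap_apply_right, hinv]
      rw [Equiv.swap_apply_of_ne_of_ne hta htb]
      by_contra hne
      exact htb (hno t hne hta)
    rw [this, Perm.sign_swap (Ne.symm ha)] at hs
    exact absurd hs (by decide)
  refine ⟨a, σ a, c, σ c, ?_, rfl, hinv a, rfl, hinv c⟩
  have h13 : a ≠ σ c := fun e => hcb (by rw [e, hinv])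
  have h24 : σ a ≠ σ c := fun e => hca (σ.injective e).symm
  simp [Ne.symm ha, Ne.symm hca, h13, Ne.symm hcb, h24, Ne.symm hc]

omit [Fintype α] in
theorem swap_pair_apply {a b c d : α} (h : [a, b, c, d].Nodup) :
    (Equiv.swap a b * Equiv.swap c d) a = b ∧ (Equiv.swap a b * Equiv.swap c d) b = a ∧
    (Equiv.swap a b * Equiv.swap c d) c = d ∧ (Equiv.swap a b * Equiv.swap c d) d = c := by
  simp only [List.nodup_cons, List.mem_cons, List.not_mem_nil, or_false, not_or, List.nodup_nil,
    and_true, not_false_eq_true] at h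
  obtain ⟨⟨hab, hac, had⟩, ⟨hbc, hbd⟩, hcd⟩ := h
  simp [Equiv.swap_apply_def, hab, hac, had, hbc, hbd, hcd, Ne.symm hab, Ne.symm hac, Ne.symm had,
    Ne.symm hbc, Ne.symm hbd, Ne.symm hcd]

/-- All involutions are conjugate into `T`. -/
theorem into_of_pow_eq_one_two (P : Sylow 2 (alternatingGroup α))
    (hcl : ∀ x ∈ T, ∀ a : alternatingGroup α,
      a * x * a⁻¹ ∈ (P : Subgroup _) → a * x * a⁻¹ ∈ T)
    {t : alternatingGroup α} (ht : t ∈ T) (ht1 : t ≠ 1) (htp : t ^ 2 = 1) :
    ∀ x : alternatingGroup α, x ^ 2 = 1 → Into T x := by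
  have hnle : ∀ σ : Perm α, σ ^ 2 = 1 → σ ≠ 1 →
      ¬ Subgroup.centralizer {σ} ≤ alternatingGroup α := by
    intro σ hσ hσ1 h
    obtain ⟨hoddc, -, -⟩ := centralizer_le_alternating_iff.mp h
    obtain ⟨c, hc⟩ := Multiset.exists_mem_of_ne_zero (mt cycleType_eq_zero.mp hσ1)
    have h1 := dvd_trans (dvd_of_mem_cycleType hc) (orderOf_dvd_of_pow_eq_one hσ)
    rcases (Nat.dvd_prime Nat.prime_two).mp h1 with e | e
    · exact absurd e (Nat.ne_of_gt (one_lt_of_mem_cycleType hc))
    · exact absurd (hoddc c hc) (by rw [e]; decide)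
  have htp' : (t : Perm α) ^ 2 = 1 := congrArg Subtype.val htp
  obtain ⟨a, b, c, d, hnd, e1, e2, e3, e4⟩ :=
    exists_swap_pair htp' (Perm.mem_alternatingGroup.mp t.2) fun e => ht1 (Subtype.ext e)
  set h := Equiv.swap b c with hh
  have hh2 : h * h = 1 := Equiv.swap_mul_self b c
  set t' : alternatingGroup α := ⟨h * t * h⁻¹, (alternatingGroup.normal).conj_mem _ t.2 h⟩
  have hKt : Into T t := ⟨1, by simpa using ht⟩
  have hKt' : Into T t' := into_conj (isConj_alt (isConj_iff.mpr ⟨h, rfl⟩)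
    (hnle _ htp' fun e => ht1 (Subtype.ext e))) hKt
  have hnd' := hnd
  simp only [List.nodup_cons, List.mem_cons, List.not_mem_nil, or_false, not_or, List.nodup_nil,
    and_true, not_false_eq_true] at hnd'
  obtain ⟨⟨hab, hac, had⟩, ⟨hbc, hbd⟩, hcd⟩ := hnd'
  have hval : (t : Perm α) * (h * t * h⁻¹) = Equiv.swap a d * Equiv.swap b c ∧
      (h * t * h⁻¹) * (t : Perm α) = Equiv.swap a d * Equiv.swap b c := by
    have hinv : ∀ s, (t : Perm α) ((t : Perm α) s) = s := fun s => by
      rw [← Perm.mul_apply, ← pow_two, htp', Perm.one_apply]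
    constructor <;>
    · refine Equiv.ext fun s => ?_
      simp only [Perm.mul_apply, hh, Equiv.swap_inv]
      by_cases hsa : s = a
      · subst hsa
        simp [Equiv.swap_apply_def, e1, e2, e3, e4, hab, hac, had, hbc, hbd, hcd, Ne.symm hab,
          Ne.symm hac, Ne.symm had, Ne.symm hbc, Ne.symm hbd, Ne.symm hcd]
      by_cases hsb : s = b
      · subst hsb
        simp [Equiv.swap_apply_def, e1, e2, e3, e4, hab, hac, had, hbc, hbd, hcd, Ne.symm hab,
          Ne.symm hac, Ne.symm had, Ne.symm hbc, Ne.symm hbd, Ne.symm hcd]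
      by_cases hsc : s = c
      · subst hsc
        simp [Equiv.swap_apply_def, e1, e2, e3, e4, hab, hac, had, hbc, hbd, hcd, Ne.symm hab,
          Ne.symm hac, Ne.symm had, Ne.symm hbc, Ne.symm hbd, Ne.symm hcd]
      by_cases hsd : s = d
      · subst hsd
        simp [Equiv.swap_apply_def, e1, e2, e3, e4, hab, hac, had, hbc, hbd, hcd, Ne.symm hab,
          Ne.symm hac, Ne.symm had, Ne.symm hbc, Ne.symm hbd, Ne.symm hcd]
      have hb' : (t : Perm α) s ≠ b := fun e => hsa (by rw [← hinv s, e, e2])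
      have hc' : (t : Perm α) s ≠ c := fun e => hsd (by rw [← hinv s, e, e3])
      simp [Equiv.swap_apply_def, hsa, hsb, hsc, hsd, hb', hc', hinv s]
  have hw : Into T (t * t') := by
    refine into_mul_of_commute P hcl htp ?_ (Subtype.ext (hval.1.trans hval.2.symm)) hKt hKt'
    refine Subtype.ext ?_
    show (h * t * h⁻¹) ^ 2 = 1
    rw [conj_pow, htp', mul_one, mul_inv_cancel]
  have hnd2 : [a, d, b, c].Nodup := by
    simp [hab, hac, had, hbc, Ne.symm hbd, Ne.symm hcd]
  have hwtype : ((t * t' : alternatingGroup α) : Perm α).cycleType = {2, 2} := by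
    show ((t : Perm α) * (h * t * h⁻¹)).cycleType = _
    rw [hval.1, cycleType_swap_mul_swap_of_nodup hnd2]
  have hw2 : ((t * t' : alternatingGroup α) : Perm α) ^ 2 = 1 := by
    rw [← orderOf_dvd_iff_pow_eq_one, ← lcm_cycleType, hwtype]
    decide
  have hw1 : ((t * t' : alternatingGroup α) : Perm α) ≠ 1 := by
    intro e
    rw [e, cycleType_one] at hwtype
    exact Multiset.zero_ne_cons hwtype
  -- induction on the support
  intro x
  induction hk : (x : Perm α).support.card using Nat.strong_induction_on generalizing x with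
  | _ k ih =>
  intro hx
  subst hk
  by_cases hx1 : x = 1
  · subst hx1; exact ⟨1, by simpa using one_mem T⟩
  have hx' : (x : Perm α) ^ 2 = 1 := congrArg Subtype.val hx
  obtain ⟨a', b', c', d', hnd, f1, f2, f3, f4⟩ :=
    exists_swap_pair hx' (Perm.mem_alternatingGroup.mp x.2) fun e => hx1 (Subtype.ext e)
  set q := Equiv.swap a' b' * Equiv.swap c' d' with hq
  have hnd' := hnd
  simp only [List.nodup_cons, List.mem_cons, List.not_mem_nil, or_false, not_or, List.nodup_nil,
    and_true, not_false_eq_true] at hnd'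
  obtain ⟨⟨hab', hac', had'⟩, ⟨hbc', hbd'⟩, hcd'⟩ := hnd'
  have hqA : q ∈ alternatingGroup α := Perm.mem_alternatingGroup.mpr (by
    rw [map_mul, Perm.sign_swap hab', Perm.sign_swap hcd']; simp)
  have hq2 : q ^ 2 = 1 := by
    rw [← orderOf_dvd_iff_pow_eq_one, ← lcm_cycleType, cycleType_swap_mul_swap_of_nodup hnd]
    decide
  have hKq : Into T ⟨q, hqA⟩ := by
    refine into_conj (isConj_alt (isConj_of_cycleType_eq ?_) (hnle _ hw2 hw1)) hw
    show _ = q.cycleType
    rw [hwtype, cycleType_swap_mul_swap_of_nodup hnd]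
  obtain ⟨g1, g2, g3, g4⟩ := swap_pair_apply hnd
  have hxx : ∀ s, (x : Perm α) ((x : Perm α) s) = s := fun s => by
    rw [← Perm.mul_apply, ← pow_two, hx', Perm.one_apply]
  have hout : ∀ s, s ≠ a' → s ≠ b' → s ≠ c' → s ≠ d' → q s = s := fun s h1 h2 h3 h4 => by
    rw [hq, Perm.mul_apply, Equiv.swap_apply_of_ne_of_ne h3 h4, Equiv.swap_apply_of_ne_of_ne h1 h2]
  have hqx : q * x = x * q := by
    refine Equiv.ext fun s => ?_
    show q ((x : Perm α) s) = (x : Perm α) (q s)
    by_cases h1 : s = a'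
    · subst h1; rw [f1, g1, g2, f2]
    by_cases h2 : s = b'
    · subst h2; rw [f2, g2, g1, f1]
    by_cases h3 : s = c'
    · subst h3; rw [f3, g3, g4, f4]
    by_cases h4 : s = d'
    · subst h4; rw [f4, g4, g3, f3]
    rw [hout s h1 h2 h3 h4, hout]
    · exact fun e => h2 (by rw [← hxx s, e, f1])
    · exact fun e => h1 (by rw [← hxx s, e, f2])
    · exact fun e => h4 (by rw [← hxx s, e, f3])
    · exact fun e => h3 (by rw [← hxx s, e, f4])
  set x' : alternatingGroup α := ⟨q, hqA⟩ * x with hx'def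
  have hx'2 : x' ^ 2 = 1 := by
    refine Subtype.ext ?_
    show (q * (x : Perm α)) ^ 2 = 1
    rw [(show Commute q (x : Perm α) from hqx).mul_pow, hq2, hx', one_mul]
  have hlt : (x' : Perm α).support.card < (x : Perm α).support.card := by
    refine Finset.card_lt_card ⟨fun s hs => ?_, fun hsub => ?_⟩
    · rw [Perm.mem_support] at hs ⊢
      intro hfix
      apply hs
      show q ((x : Perm α) s) = s
      rw [hfix]
      refine hout s ?_ ?_ ?_ ?_ <;> rintro rfl
      · exact hab' (hfix.symm.trans f1)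
      · exact hab' (f2.symm.trans hfix)
      · exact hcd' (hfix.symm.trans f3)
      · exact hcd' (f4.symm.trans hfix)
    · have ha' : a' ∈ (x : Perm α).support := Perm.mem_support.mpr (by rw [f1]; exact Ne.symm hab')
      have := Perm.mem_support.mp (hsub ha')
      apply this
      show q ((x : Perm α) a') = a'
      rw [f1, g2]
  have hx'K := ih _ hlt x' rfl hx'2
  have hxe : x = ⟨q, hqA⟩ * x' := by
    refine Subtype.ext ?_
    show (x : Perm α) = q * (q * x)
    rw [← mul_assoc, ← pow_two, hq2, one_mul]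
  rw [hxe]
  refine into_mul_of_commute P hcl (Subtype.ext hq2) hx'2 (Subtype.ext ?_) hKq hx'K
  show q * (q * x) = q * x * q
  rw [mul_assoc q (x : Perm α) q, ← hqx]

end Core

/-- A Sylow subgroup of a large alternating group has no proper strongly closed subgroup. -/
theorem noClosed {p : ℕ} [hp : Fact p.Prime] (P : Sylow p (alternatingGroup α))
    (hn : p = 2 ∨ p + 2 ≤ Fintype.card α) : NoClosed (P : Subgroup (alternatingGroup α)) := by
  intro T hTP hT hcl
  refine le_antisymm hTP ?_
  have hTp : IsPGroup p T := P.isPGroup'.to_le hTP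
  -- an element of order `p` in `T`
  have hdvd : p ∣ Nat.card T := by
    obtain ⟨j, hj⟩ := IsPGroup.iff_card.mp hTp
    rcases j with _ | j
    · exact absurd (Subgroup.eq_bot_of_card_eq T (by rw [hj, pow_zero])) hT
    · rw [hj]; exact dvd_pow_self p j.succ_ne_zero
  obtain ⟨⟨t, ht⟩, hto⟩ := exists_prime_orderOf_dvd_card' p hdvd
  rw [Subgroup.orderOf_mk] at hto
  have htp : t ^ p = 1 := hto ▸ pow_orderOf_eq_one t
  have ht1 : t ≠ 1 := by
    intro e
    rw [e, orderOf_one] at hto
    exact hp.out.one_lt.ne hto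
  have hord : ∀ x : alternatingGroup α, x ^ p = 1 → Into T x := by
    rcases hp.out.eq_two_or_odd' with rfl | hodd
    · exact into_of_pow_eq_one_two P hcl ht ht1 htp
    · have hn' : p + 2 ≤ Fintype.card α := hn.resolve_left (by rintro rfl; exact absurd hodd (by decide))
      exact into_of_pow_eq_one_odd P hodd hn' hcl ht ht1 htp
  have hall : ∀ (k : ℕ) (x : alternatingGroup α), x ^ p ^ k = 1 → Into T x := by
    intro k
    induction k with
    | zero =>
      intro x hx
      rw [pow_zero, pow_one] at hx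
      exact ⟨1, by simpa [hx] using one_mem T⟩
    | succ k ih =>
      intro x hx
      obtain ⟨z, e, hz, hxz, -, he, hsgn, hlow⟩ :=
        exists_piece (p := p) (k := k) (x : Perm α) (congrArg Subtype.val hx)
      have heA : e ∈ alternatingGroup α := by
        rw [Perm.mem_alternatingGroup, hsgn]
        exact Perm.mem_alternatingGroup.mp x.2
      set e' : alternatingGroup α := ⟨e, heA⟩
      set A : Subgroup (alternatingGroup α) := (pieces z).subgroupOf (alternatingGroup α) with hA
      have hAp : IsPGroup p A := by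
        intro a
        refine ⟨1, Subtype.ext (Subtype.ext ?_)⟩
        rw [pow_one]
        exact pieces_pow hz (Subgroup.mem_subgroupOf.mp a.2)
      have hxn : x ∈ Subgroup.normalizer (A : Set (alternatingGroup α)) := by
        refine Subgroup.mem_normalizer_iff.mpr fun a => ?_
        rw [hA, Subgroup.mem_subgroupOf, Subgroup.mem_subgroupOf]
        refine ⟨fun ha => pieces_conj hxz ha, fun ha => ?_⟩
        have := pieces_conj hxz.inv_left ha
        simpa [mul_assoc] using this
      have hxp : IsPGroup p (Subgroup.zpowers x) := by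
        intro y
        obtain ⟨i, hi⟩ := Subgroup.mem_zpowers_iff.mp y.2
        refine ⟨k + 1, Subtype.ext ?_⟩
        rw [SubmonoidClass.coe_pow, ← hi, OneMemClass.coe_one, ← zpow_natCast, ← zpow_mul, mul_comm,
          zpow_mul, zpow_natCast, hx, one_zpow]
      have hQ := hxp.to_sup_of_normal_right' hAp (Subgroup.zpowers_le.mpr hxn)
      have hy : Into T (x * e') := ih _ (Subtype.ext hlow)
      have hei : Into T e'⁻¹ := into_inv (hord _ (Subtype.ext (pieces_pow hz he)))
      have he' : e' ∈ A := Subgroup.mem_subgroupOf.mpr he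
      have := into_mul P hcl hQ
        (mul_mem (Subgroup.mem_sup_left (Subgroup.mem_zpowers x)) (Subgroup.mem_sup_right he'))
        (inv_mem (Subgroup.mem_sup_right he')) hy hei
      simpa using this
  intro x hx
  obtain ⟨k, hk⟩ := P.isPGroup' ⟨x, hx⟩
  exact mem_of_into hcl hx (hall k x (congrArg Subtype.val hk))

end Cfsg.Agent.Fusion91.Alt
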