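import Cfsg.Agent.Fusion91.Alt.Struct
import Cfsg.Agent.Fusion91.Crit

set_option autoImplicit false

/-! The `p`-fusion system of a large alternating group is simple, `p` odd. -/

namespace Cfsg.Agent.Fusion91.Alt

open Equiv Equiv.Perm

section Gen

variable {k p : ℕ} [hp : Fact p.Prime]

/-- Three-cycles lie in every normal subset generated by elements of order `p`. -/
theorem threeCycle_mem_closure (hodd : Odd p) (hpk : p ≤ k) {τ : Perm (Fin k)}
    (hτ : τ.IsThreeCycle) :
    τ ∈ Subgroup.closure {c : Perm (Fin k) | c ^ p = 1} := by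
  classical
  set H := Subgroup.closure {c : Perm (Fin k) | c ^ p = 1}
  have hnorm : ∀ x ∈ H, ∀ π : Perm (Fin k), π * x * π⁻¹ ∈ H := by
    intro x hx π
    induction hx using Subgroup.closure_induction with
    | mem y hy =>
      refine Subgroup.subset_closure ?_
      show (π * y * π⁻¹) ^ p = 1
      rw [conj_pow, show y ^ p = 1 from hy, mul_one, mul_inv_cancel]
    | one => simpa using one_mem H
    | mul a b _ _ ha hb =>
      rw [show π * (a * b) * π⁻¹ = π * a * π⁻¹ * (π * b * π⁻¹) by group]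
      exact mul_mem ha hb
    | inv a _ ha =>
      rw [show π * a⁻¹ * π⁻¹ = (π * a * π⁻¹)⁻¹ by group]
      exact inv_mem ha
  obtain ⟨κ⟩ : Nonempty (ZMod p ↪ Fin k) :=
    Function.Embedding.nonempty_of_card_le (by rw [ZMod.card, Fintype.card_fin]; exact hpk)
  set c : Perm (Fin k) := Perm.viaEmbeddingHom κ (Equiv.addRight 1) with hc
  have hcp : c ^ p = 1 := by
    rw [hc, ← map_pow, show (Equiv.addRight (1 : ZMod p)) ^ p = 1 from ?_, map_one]
    have key : ∀ j : ℕ, (Equiv.addRight (1 : ZMod p)) ^ j = Equiv.addRight (j : ZMod p) := by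
      intro j
      induction j with
      | zero => exact Equiv.ext fun z => by simp
      | succ j ih =>
        rw [pow_succ, ih]
        exact Equiv.ext fun z => by simp [Perm.mul_apply]; ring
    rw [key, ZMod.natCast_self]
    exact Equiv.ext fun z => by simp
  have hcapp : ∀ z, c (κ z) = κ (z + 1) := fun z =>
    Perm.viaEmbedding_apply (Equiv.addRight (1 : ZMod p)) κ z
  set t := Equiv.swap (κ 0) (κ 1) with ht
  have h01 : κ 0 ≠ κ 1 := κ.injective.ne zero_ne_one
  have h02 : κ (-1 : ZMod p) ≠ κ 1 := by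
    refine κ.injective.ne fun h => ?_
    have h2 : ((2 : ℕ) : ZMod p) = 0 := by
      push_cast
      linear_combination -h
    rw [ZMod.natCast_eq_zero_iff] at h2
    have := (Nat.prime_dvd_prime_iff_eq hp.out Nat.prime_two).mp h2
    subst this
    exact absurd hodd (by decide)
  have hm0 : κ (-1 : ZMod p) ≠ κ 0 := κ.injective.ne (by simp)
  have hcm : c (κ (-1)) = κ 0 := by rw [hcapp, neg_add_cancel]
  have hc0 : c (κ 0) = κ 1 := by rw [hcapp, zero_add]
  have h3 : c⁻¹ * (t * c * t⁻¹) = Equiv.swap (κ 0) (κ (-1)) * Equiv.swap (κ 0) (κ 1) := by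
    have e : c⁻¹ * t * c = Equiv.swap (κ (-1)) (κ 0) := by
      rw [ht, Equiv.mul_swap_eq_swap_mul, mul_assoc, inv_mul_cancel, mul_one]
      congr 1
      · rw [Perm.inv_eq_iff_eq, hcm]
      · rw [Perm.inv_eq_iff_eq, hc0]
    rw [ht] at e ⊢
    rw [Equiv.swap_inv, ← mul_assoc, ← mul_assoc, e, Equiv.swap_comm (κ (-1)) (κ 0)]
  have h3c : (c⁻¹ * (t * c * t⁻¹)).IsThreeCycle := by
    rw [h3]
    exact isThreeCycle_swap_mul_swap_same (Ne.symm hm0) h01 h02
  have hmem : c⁻¹ * (t * c * t⁻¹) ∈ H :=
    mul_mem (inv_mem (Subgroup.subset_closure hcp)) (hnorm c (Subgroup.subset_closure hcp) t)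
  obtain ⟨π, hπ⟩ := isConj_iff.mp (isConj_of_cycleType_eq
    (show (c⁻¹ * (t * c * t⁻¹)).cycleType = τ.cycleType from h3c.cycleType.trans hτ.cycleType.symm))
  exact hπ ▸ hnorm _ hmem π

theorem exists_pow_p_move (hpk : p ≤ k) {i j : Fin k} (hij : i ≠ j) :
    ∃ c : Perm (Fin k), c ^ p = 1 ∧ c i = j := by
  classical
  have h2 := hp.out.two_le
  obtain ⟨κ⟩ : Nonempty (ZMod p ↪ Fin k) :=
    Function.Embedding.nonempty_of_card_le (by rw [ZMod.card, Fintype.card_fin]; exact hpk)
  set c : Perm (Fin k) := Perm.viaEmbeddingHom κ (Equiv.addRight 1) with hc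
  have hcapp : c (κ 0) = κ 1 :=
    (Perm.viaEmbedding_apply (Equiv.addRight (1 : ZMod p)) κ 0).trans (by simp)
  have h01 : κ 0 ≠ κ 1 := κ.injective.ne zero_ne_one
  set π := Equiv.swap (Equiv.swap (κ 0) i (κ 1)) j * Equiv.swap (κ 0) i with hπ
  have hπ0 : π (κ 0) = i := by
    rw [hπ, Perm.mul_apply, Equiv.swap_apply_left,
      Equiv.swap_apply_of_ne_of_ne (fun e => h01 ?_) hij]
    exact (Equiv.swap (κ 0) i).injective (by rw [Equiv.swap_apply_left]; exact e)
  have hπ1 : π (κ 1) = j := by rw [hπ, Perm.mul_apply, Equiv.swap_apply_left]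
  refine ⟨π * c * π⁻¹, ?_, ?_⟩
  · rw [conj_pow]
    have : c ^ p = 1 := by
      rw [hc, ← map_pow, show (Equiv.addRight (1 : ZMod p)) ^ p = 1 from ?_, map_one]
      have key : ∀ j : ℕ, (Equiv.addRight (1 : ZMod p)) ^ j = Equiv.addRight (j : ZMod p) := by
        intro j
        induction j with
        | zero => exact Equiv.ext fun z => by simp
        | succ j ih =>
          rw [pow_succ, ih]
          exact Equiv.ext fun z => by simp [Perm.mul_apply]; ring
      rw [key, ZMod.natCast_self]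
      exact Equiv.ext fun z => by simp
    rw [this, mul_one, mul_inv_cancel]
  · rw [← hπ0, Perm.mul_apply, Perm.mul_apply, inv_app, hcapp, hπ1]

/-- What a subgroup needs to contain all affine elements with trivial invariant. -/
theorem affine_mem {D : Subgroup (Perm (Blk k p))} (hodd : Odd p) (hpk : p ≤ k)
    (hD : ∀ (σ : Perm (Fin k)) (a : Fin k → (ZMod p)ˣ) (v : Fin k → ZMod p) (m : ℕ),
      (liftB σ * mulB a * shift v) ^ p ^ m = 1 → liftB σ * mulB a * shift v ∈ D) :
    (∀ v, shift v ∈ D) ∧ (∀ σ ∈ alternatingGroup (Fin k), liftB σ ∈ D) ∧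
      (∀ a : Fin k → (ZMod p)ˣ, ∏ i, a i = 1 → mulB a ∈ D) := by
  classical
  have hlift : ∀ c : Perm (Fin k), c ^ p = 1 → liftB c ∈ D := by
    intro c hc
    have h := hD c 1 0 1 (by
      rw [mulB_one, shift_zero, mul_one, mul_one, pow_one, ← map_pow, hc, map_one])
    rwa [mulB_one, shift_zero, mul_one, mul_one] at h
  refine ⟨fun v => ?_, ?_, ?_⟩
  · have h := hD 1 1 v 1 (by rw [map_one, mulB_one, one_mul, one_mul, pow_one, shift_pow_p])
    rwa [map_one, mulB_one, one_mul, one_mul] at h
  · intro σ hσ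
    rw [← Equiv.Perm.closure_three_cycles_eq_alternating] at hσ
    have : Subgroup.closure {σ : Perm (Fin k) | σ.IsThreeCycle} ≤ D.comap liftB := by
      refine (Subgroup.closure_le _).mpr fun τ hτ => ?_
      have hle : Subgroup.closure {c : Perm (Fin k) | c ^ p = 1} ≤ D.comap liftB :=
        (Subgroup.closure_le _).mpr hlift
      exact hle (threeCycle_mem_closure hodd hpk hτ)
    exact this hσ
  · have hpair : ∀ (i j : Fin k), i ≠ j → ∀ u : (ZMod p)ˣ,
        mulB (Function.update (Function.update (1 : Fin k → (ZMod p)ˣ) j u) i u⁻¹) ∈ D := by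
      intro i j hij u
      obtain ⟨c, hc, hcij⟩ := exists_pow_p_move hpk hij
      set m : Fin k → (ZMod p)ˣ := Function.update 1 i u with hm
      have h1 : mulB m * (liftB c)⁻¹ * (mulB m)⁻¹ ∈ D := by
        have e : mulB m * (liftB c)⁻¹ * (mulB m)⁻¹ =
            liftB c⁻¹ * mulB (fun l => m (c⁻¹ l) * (m l)⁻¹) * shift 0 := by
          rw [← mulB_conj_liftB m c, map_inv, shift_zero, mul_one, inv_mul_cancel_left]
        rw [e]
        refine hD _ _ _ 1 ?_
        rw [← e, pow_one, conj_pow, inv_pow, ← map_pow, hc, map_one, inv_one, mul_one, mul_inv_cancel]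
      have h2 := mul_mem (hlift c hc) h1
      rw [mulB_conj_liftB] at h2
      convert h2 using 2
      funext l
      rcases eq_or_ne l i with rfl | hli
      · have hne : c.symm l ≠ l := fun e => hij (by rw [← hcij]; exact (Perm.inv_eq_iff_eq.mp e))
        simp [hm, hne]
      · rcases eq_or_ne l j with rfl | hlj
        · have he : c.symm l = i := Perm.inv_eq_iff_eq.mpr hcij.symm
          simp [hm, he, hli]
        · have hne : c.symm l ≠ i := fun e => hlj (by rw [← hcij, ← e, Equiv.apply_symm_apply])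
          simp [hm, hne, hli, hlj]
    intro a ha
    have key : ∀ (s : Finset (Fin k)) (a : Fin k → (ZMod p)ˣ),
        (∀ i ∉ s, a i = 1) → ∏ i, a i = 1 → mulB a ∈ D := by
      intro s
      induction s using Finset.induction_on with
      | empty =>
        intro a ha _
        rw [show a = 1 from funext fun i => ha i (Finset.notMem_empty i), mulB_one]
        exact one_mem D
      | @insert i s hi ih =>
        intro a ha hprod
        rcases s.eq_empty_or_nonempty with rfl | ⟨j, hj⟩
        · refine ih a (fun l _ => ?_) hprod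
          rcases eq_or_ne l i with rfl | hl
          · rw [← hprod, Finset.prod_eq_single l (fun x _ hx => ha x (by simpa using hx)) (by simp)]
          · exact ha l (by simpa using hl)
        have hij : i ≠ j := fun e => hi (e ▸ hj)
        set b := Function.update (Function.update (1 : Fin k → (ZMod p)ˣ) j (a i)) i (a i)⁻¹ with hb
        have hbprod : ∏ l, b l = 1 := by
          rw [Fintype.prod_eq_mul i j hij]
          · simp [hb, hij.symm]
          · rintro l ⟨h1, h2⟩; simp [hb, h1, h2]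
        have h1 : mulB (a * b) ∈ D := by
          refine ih _ (fun l hl => ?_) ?_
          · rw [Pi.mul_apply]
            rcases eq_or_ne l i with rfl | hli
            · simp [hb]
            · have hlj : l ≠ j := fun e => hl (e ▸ hj)
              rw [ha l (by simp [hli, hl])]
              simp [hb, hli, hlj]
          · rw [Finset.prod_congr rfl fun l _ => Pi.mul_apply a b l, Finset.prod_mul_distrib, hprod,
              hbprod, one_mul]
        have := mul_mem h1 (inv_mem (hpair i j hij (a i)))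
        rwa [mulB_inv, mulB_mul, ← hb, mul_inv_cancel_right] at this
    exact key Finset.univ a (fun i hi => absurd (Finset.mem_univ i) hi) ha

/-- The invariant of the diagonal element of the square. -/
noncomputable def dB (κ : ZMod p ↪ Fin k) (u : (ZMod p)ˣ) : Perm (Blk k p) := zext κ (diagZ u)

theorem dB_eq (κ : ZMod p ↪ Fin k) (u : (ZMod p)ˣ) :
    ∃ (σ : Perm (Fin k)) (a : Fin k → (ZMod p)ˣ),
      dB κ u = liftB σ * mulB a ∧ ∏ i, a i = u⁻¹ := by
  classical
  set σ : Perm (Fin k) := Perm.viaEmbeddingHom κ u.mulLeft with hσ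
  refine ⟨σ, fun i => if i ∈ Set.range κ then u⁻¹ else 1, ?_, ?_⟩
  · refine Equiv.ext fun x => ?_
    rcases blk_cases κ x with ⟨s, t, rfl⟩ | hx
    · rw [dB, zext_in, diagZ_apply, Perm.mul_apply, mulB_apply, liftB_apply]
      dsimp only
      rw [if_pos ⟨s, rfl⟩, hσ, show Perm.viaEmbeddingHom κ u.mulLeft (κ s) = κ (u.mulLeft s) from
        Perm.viaEmbedding_apply _ κ s]
      rfl
    · rw [dB, zext_out κ _ hx, Perm.mul_apply, mulB_apply, liftB_apply]
      dsimp only
      rw [if_neg hx, Units.val_one, one_mul, hσ,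
        show Perm.viaEmbeddingHom κ u.mulLeft x.1 = x.1 from
          Perm.viaEmbedding_apply_of_notMem _ κ x.1 hx]
  · rw [← Finset.prod_filter_mul_prod_filter_not Finset.univ (fun i => i ∈ Set.range κ)]
    rw [Finset.prod_congr rfl (g := fun _ => u⁻¹) (fun i hi => if_pos (Finset.mem_filter.mp hi).2),
      Finset.prod_eq_one (fun i hi => if_neg (Finset.mem_filter.mp hi).2), mul_one, Finset.prod_const]
    have : (Finset.univ.filter fun i => i ∈ Set.range κ) = Finset.univ.map κ := by
      ext i; simp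
    rw [this, Finset.card_map, Finset.card_univ, ZMod.card]
    apply Units.ext
    rw [Units.val_pow_eq_pow_val, ZMod.pow_card]

end Gen

variable {n p k : ℕ} [hp : Fact p.Prime] (ι : Blk k p ↪ Fin n) (κ : ZMod p ↪ Fin k)

theorem isPGroup_baseE : IsPGroup p (baseE ι) := by
  rintro ⟨g, v, hv⟩
  refine ⟨1, Subtype.ext (Subtype.ext ?_)⟩
  show (g : Perm (Fin n)) ^ p ^ 1 = 1
  rw [hv, pow_one, ← map_pow, shift_pow_p, map_one]

theorem isPGroup_sqR : IsPGroup p (sqR ι κ) := by
  rintro ⟨g, w, v, hv, hg⟩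
  refine ⟨1, Subtype.ext (Subtype.ext ?_)⟩
  show (g : Perm (Fin n)) ^ p ^ 1 = 1
  rw [hg, pow_one, ← map_pow, sqElt_pow_p κ hv, map_one]

theorem mem_normalizer_baseE {g : alternatingGroup (Fin n)} {σ : Perm (Fin k)}
    {a : Fin k → (ZMod p)ˣ} {v : Fin k → ZMod p}
    (hg : (g : Perm (Fin n)) = ext' ι (liftB σ * mulB a * shift v)) :
    g ∈ Subgroup.normalizer ((baseE ι : Subgroup _) : Set (alternatingGroup (Fin n))) := by
  have hfwd : ∀ x ∈ baseE ι, g * x * g⁻¹ ∈ baseE ι := by
    rintro x ⟨w, hw⟩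
    refine ⟨fun i => (a (σ⁻¹ i) : ZMod p) * w (σ⁻¹ i), ?_⟩
    rw [Subgroup.coe_mul, Subgroup.coe_mul, InvMemClass.coe_inv, hg, hw, ← map_inv, ← map_mul,
      ← map_mul, affine_conj_shift']
  refine Subgroup.mem_normalizer_iff.mpr fun x => ⟨hfwd x, fun hx => ?_⟩
  obtain ⟨w, hw⟩ := hx
  refine ⟨fun i => (((a i)⁻¹ : (ZMod p)ˣ) : ZMod p) * w (σ i), ?_⟩
  rw [Subgroup.coe_mul, Subgroup.coe_mul, InvMemClass.coe_inv, mul_inv_eq_iff_eq_mul,
    ← eq_inv_mul_iff_mul_eq] at hw
  rw [hw, hg, ← map_inv, ← map_mul, ← map_mul]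
  refine congrArg _ ?_
  rw [inv_mul_eq_iff_eq_mul, affine_conj_shift]
  refine congrArg (fun z => shift z * _) (funext fun i => ?_)
  show w i = _
  rw [app_inv, ← mul_assoc, Units.mul_inv, one_mul]

theorem mem_normalizer_sqR {g : alternatingGroup (Fin n)} {f : Perm (ZMod p × ZMod p)}
    (L : ZMod p × ZMod p → ZMod p × ZMod p) (L' : ZMod p × ZMod p → ZMod p × ZMod p)
    (hL : ∀ w, f * addZ w = addZ (L w) * f) (hL' : ∀ w, L (L' w) = w)
    (hg : (g : Perm (Fin n)) = ext' ι (zext κ f)) :
    g ∈ Subgroup.normalizer ((sqR ι κ : Subgroup _) : Set (alternatingGroup (Fin n))) := by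
  have key : ∀ w v, (∀ s, v (κ s) = 0) → zext κ f * sqElt κ w v * (zext κ f)⁻¹ = sqElt κ (L w) v := by
    intro w v hv
    rw [mul_inv_eq_iff_eq_mul, sqElt, sqElt, ← mul_assoc, ← map_mul, hL, map_mul, mul_assoc,
      (zext_comm_shift κ f hv).eq, mul_assoc]
  refine Subgroup.mem_normalizer_iff.mpr fun x => ⟨?_, ?_⟩
  · rintro ⟨w, v, hv, hx⟩
    refine ⟨L w, v, hv, ?_⟩
    rw [Subgroup.coe_mul, Subgroup.coe_mul, InvMemClass.coe_inv, hg, hx, ← map_inv, ← map_mul,
      ← map_mul, key w v hv]
  · rintro ⟨w, v, hv, hx⟩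
    refine ⟨L' w, v, hv, ?_⟩
    rw [Subgroup.coe_mul, Subgroup.coe_mul, InvMemClass.coe_inv, mul_inv_eq_iff_eq_mul,
      ← eq_inv_mul_iff_mul_eq] at hx
    rw [hx, hg, ← map_inv, ← map_mul, ← map_mul]
    refine congrArg _ ?_
    rw [inv_mul_eq_iff_eq_mul]
    have h := key (L' w) v hv
    rw [hL', mul_inv_eq_iff_eq_mul] at h
    exact h.symm

theorem sqR_le_normalizer_baseE :
    sqR ι κ ≤ Subgroup.normalizer ((baseE ι : Subgroup _) : Set (alternatingGroup (Fin n))) := by
  classical
  rintro g ⟨w, v, hv, hg⟩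
  set v' : Fin k → ZMod p := (fun i => if i ∈ Set.range κ then w.2 else 0) + v
  refine mem_normalizer_baseE ι (σ := Perm.viaEmbeddingHom κ (Equiv.addRight w.1)) (a := 1) (v := v') ?_
  rw [hg]
  refine congrArg _ (Equiv.ext fun x => ?_)
  rw [sqElt, mulB_one, mul_one, Perm.mul_apply, Perm.mul_apply, shift_apply, shift_apply, liftB_apply]
  rcases blk_cases κ x with ⟨s, t, rfl⟩ | hx
  · dsimp only [v', Pi.add_apply]
    rw [if_pos ⟨s, rfl⟩, hv, add_zero, add_zero, zext_in, addZ_apply,
      show Perm.viaEmbeddingHom κ (Equiv.addRight w.1) (κ s) = κ (s + w.1) from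
        Perm.viaEmbedding_apply _ κ s]
    rfl
  · dsimp only [v', Pi.add_apply]
    rw [if_neg hx, zero_add, zext_out κ _ (by exact hx),
      show Perm.viaEmbeddingHom κ (Equiv.addRight w.1) x.1 = x.1 from
        Perm.viaEmbedding_apply_of_notMem _ κ x.1 hx]

/-- A translation as an element of the alternating group. -/
noncomputable def shG (hodd : Odd p) (v : Fin k → ZMod p) : alternatingGroup (Fin n) :=
  ⟨ext' ι (shift v), ext'_pow_mem ι hodd (m := 1) (by rw [pow_one]; exact shift_pow_p v)⟩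

theorem shG_add (hodd : Odd p) (v w : Fin k → ZMod p) :
    shG ι hodd (v + w) = shG ι hodd v * shG ι hodd w :=
  Subtype.ext (by show ext' ι _ = ext' ι _ * ext' ι _; rw [← map_mul, shift_add])

theorem shG_zero (hodd : Odd p) : shG ι hodd (0 : Fin k → ZMod p) = 1 :=
  Subtype.ext (by show ext' ι _ = 1; rw [shift_zero, map_one])

theorem shG_pow (hodd : Odd p) (v : Fin k → ZMod p) : shG ι hodd v ^ p = 1 :=
  Subtype.ext (by show ext' ι _ ^ p = 1; rw [← map_pow, shift_pow_p, map_one])

variable (hrest : ∀ x y : Fin n, x ∉ Set.range ι → y ∉ Set.range ι → x = y)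

include hrest in
/-- An element of prime power order normalizing the translations and with `p` moved points is a
translation. -/
theorem mem_baseE_of_small (hodd : Odd p) {g : alternatingGroup (Fin n)}
    (hg : g ∈ Subgroup.normalizer ((baseE ι : Subgroup _) : Set (alternatingGroup (Fin n))))
    {m : ℕ} (hm : g ^ p ^ m = 1) (hsupp : (g : Perm (Fin n)).support.card ≤ p) : g ∈ baseE ι := by
  classical
  obtain ⟨σ, a, v, hgv⟩ := normalizer_baseE ι hrest hodd hg
  have hσ : σ = 1 := by
    by_contra hne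
    obtain ⟨i, hi⟩ := not_forall.mp (fun h => hne (Equiv.ext h))
    rw [Perm.one_apply] at hi
    have hsub : (({i, σ i} : Finset (Fin k)) ×ˢ (Finset.univ : Finset (ZMod p))).map ι ⊆
        (g : Perm (Fin n)).support := by
      intro x hx
      obtain ⟨⟨j, t⟩, hjt, rfl⟩ := Finset.mem_map.mp hx
      rw [Perm.mem_support, hgv, ext'_in, Perm.mul_apply, Perm.mul_apply, shift_apply, mulB_apply,
        liftB_apply]
      intro h
      have h1 : σ j = j := congrArg Prod.fst (ι.injective h)
      simp only [Finset.mem_product, Finset.mem_insert, Finset.mem_singleton, Finset.mem_univ,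
        and_true] at hjt
      rcases hjt with rfl | rfl
      · exact hi h1
      · exact hi (σ.injective h1)
    have h := Finset.card_le_card hsub
    rw [Finset.card_map, Finset.card_product, Finset.card_pair (Ne.symm hi), Finset.card_univ,
      ZMod.card] at h
    have := hp.out.two_le
    omega
  subst hσ
  rw [map_one, one_mul] at hgv
  have hpow : ∀ N : ℕ, ∃ w, (mulB a * shift v) ^ N = mulB (a ^ N) * shift w := by
    intro N
    induction N with
    | zero => exact ⟨0, by rw [pow_zero, pow_zero, mulB_one, shift_zero, mul_one]⟩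
    | succ N ih =>
      obtain ⟨w, hw⟩ := ih
      refine ⟨(fun i => (((a i)⁻¹ : (ZMod p)ˣ) : ZMod p) * w i) + v, ?_⟩
      have e : shift w * mulB a = mulB a * shift (fun i => (((a i)⁻¹ : (ZMod p)ˣ) : ZMod p) * w i) :=
        Equiv.ext fun x => Prod.ext rfl (by
          simp only [Perm.mul_apply, shift_apply, mulB_apply]
          rw [mul_add, ← mul_assoc _ _ (w x.1), Units.mul_inv, one_mul])
      rw [pow_succ, hw, pow_succ, mul_assoc (mulB (a ^ N)), ← mul_assoc (shift w), e, mul_assoc,
        shift_add, ← mul_assoc, mulB_mul]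
  obtain ⟨w, hw⟩ := hpow (p ^ m)
  have h1 : (mulB a * shift v) ^ p ^ m = 1 := by
    apply ext'_inj ι
    rw [map_pow, ← hgv, map_one]
    exact congrArg Subtype.val hm
  rw [hw] at h1
  have ha : a = 1 := by
    funext i
    refine units_eq_one_of_pow (m := m) (a i) (Units.ext ?_)
    have e0 := congrArg Prod.snd (Equiv.ext_iff.mp h1 (i, 0))
    have e1 := congrArg Prod.snd (Equiv.ext_iff.mp h1 (i, 1))
    simp only [Perm.mul_apply, shift_apply, mulB_apply, Perm.one_apply, zero_add, Pi.pow_apply] at e0 e1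
    rw [Units.val_one]
    linear_combination e1 - e0
  rw [ha, mulB_one, one_mul] at hgv
  exact ⟨v, hgv⟩

include hrest in
theorem normalizer_le_of_baseE_le (hodd : Odd p) (S : Sylow p (alternatingGroup (Fin n)))
    (hE : baseE ι ≤ (S : Subgroup (alternatingGroup (Fin n)))) :
    (S : Subgroup (alternatingGroup (Fin n))) ≤ Subgroup.normalizer ((baseE ι : Subgroup _) : Set (alternatingGroup (Fin n))) ∧
    Subgroup.normalizer ((S : Subgroup (alternatingGroup (Fin n))) : Set (alternatingGroup (Fin n))) ≤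
      Subgroup.normalizer ((baseE ι : Subgroup _) : Set (alternatingGroup (Fin n))) := by
  classical
  set N := Subgroup.normalizer ((baseE ι : Subgroup _) : Set (alternatingGroup (Fin n))) with hN
  -- an element carrying the basic cycles into `N` normalizes the translations
  have key : ∀ g : alternatingGroup (Fin n),
      (∀ x ∈ baseE ι, g * x * g⁻¹ ∈ N ∧ g⁻¹ * x * g ∈ N) → g ∈ N := by
    intro g hg
    have hone : ∀ (h : alternatingGroup (Fin n)), (∀ x ∈ baseE ι, h * x * h⁻¹ ∈ N) →
        ∀ x ∈ baseE ι, h * x * h⁻¹ ∈ baseE ι := by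
      intro h hh x hx
      obtain ⟨v, hv⟩ := hx
      have hall : ∀ (i : Fin k) (c : ZMod p),
          h * shG ι hodd (Pi.single i c) * h⁻¹ ∈ baseE ι := by
        intro i c
        refine mem_baseE_of_small ι hrest hodd (hh _ ⟨_, rfl⟩) (m := 1) ?_ ?_
        · rw [pow_one, conj_pow, shG_pow, mul_one, mul_inv_cancel]
        · show ((h : Perm (Fin n)) * ext' ι (shift (Pi.single i c)) * (h : Perm (Fin n))⁻¹).support.card ≤ p
          rw [Perm.support_conj, Finset.card_map]
          have hsub : (ext' ι (shift (Pi.single i c))).support ⊆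
              (Finset.univ : Finset (ZMod p)).image fun t => ι (i, t) := by
            intro y hy
            rw [Perm.mem_support] at hy
            by_cases hyr : y ∈ Set.range ι
            · obtain ⟨⟨j, t⟩, rfl⟩ := hyr
              by_cases hji : j = i
              · exact Finset.mem_image.mpr ⟨t, Finset.mem_univ _, by rw [hji]⟩
              · exact absurd (by rw [ext'_in]; simp [hji]) hy
            · exact absurd (ext'_out ι _ hyr) hy
          refine (Finset.card_le_card hsub).trans (Finset.card_image_le.trans ?_)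
          rw [Finset.card_univ, ZMod.card]
      have hsum : ∀ s : Finset (Fin k),
          h * shG ι hodd (∑ i ∈ s, Pi.single i (v i)) * h⁻¹ ∈ baseE ι := by
        intro s
        induction s using Finset.induction_on with
        | empty =>
          rw [Finset.sum_empty, shG_zero, mul_one, mul_inv_cancel]
          exact one_mem _
        | @insert i s hi ih =>
          have := mul_mem (hall i (v i)) ih
          convert this using 1
          rw [Finset.sum_insert hi, shG_add]
          group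
      have hx' := hsum Finset.univ
      rw [Finset.univ_sum_single] at hx'
      rwa [show x = shG ι hodd v from Subtype.ext hv]
    refine Subgroup.mem_normalizer_iff.mpr fun x => ⟨hone g (fun y hy => (hg y hy).1) x, fun hx => ?_⟩
    have h2 := hone g⁻¹ (fun y hy => by rw [inv_inv]; exact (hg y hy).2) _ hx
    convert h2 using 1
    group
  have hS : (S : Subgroup (alternatingGroup (Fin n))) ≤ N := by
    by_contra hnot
    have hnil : Group.IsNilpotent (S : Subgroup (alternatingGroup (Fin n))) := S.isPGroup'.isNilpotent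
    set K := ((S : Subgroup (alternatingGroup (Fin n))) ⊓ N).subgroupOf (S : Subgroup (alternatingGroup (Fin n))) with hK
    have hlt : K < ⊤ := by
      rw [lt_top_iff_ne_top, Ne, Subgroup.subgroupOf_eq_top]
      exact fun h => hnot (h.trans inf_le_right)
    obtain ⟨⟨s, hs⟩, hsn, hsK⟩ :=
      SetLike.exists_of_lt (Group.normalizerCondition_of_isNilpotent (h := hnil) _ hlt)
    refine hsK (Subgroup.mem_subgroupOf.mpr ⟨hs, key s fun x hx => ?_⟩)
    have hxK : (⟨x, hE hx⟩ : (S : Subgroup (alternatingGroup (Fin n)))) ∈ K :=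
      Subgroup.mem_subgroupOf.mpr ⟨hE hx, Subgroup.le_normalizer hx⟩
    constructor
    · exact (Subgroup.mem_subgroupOf.mp ((Subgroup.mem_normalizer_iff.mp hsn _).mp hxK)).2
    · exact (Subgroup.mem_subgroupOf.mp ((Subgroup.mem_normalizer_iff''.mp hsn _).mp hxK)).2
  refine ⟨hS, fun g hg => key g fun x hx => ⟨?_, ?_⟩⟩
  · exact hS ((Subgroup.mem_normalizer_iff.mp hg x).mp (hE hx))
  · exact hS ((Subgroup.mem_normalizer_iff''.mp hg x).mp (hE hx))

include hrest in
theorem alt_simple_odd_of (hodd : Odd p) (hpk : p ≤ k) (hn : p + 2 ≤ n)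
    (S : Sylow p (alternatingGroup (Fin n))) (hP : baseE ι ⊔ sqR ι κ ≤ (S : Subgroup (alternatingGroup (Fin n)))) :
    (Cfsg.groupFusionSystem (S : Subgroup (alternatingGroup (Fin n)))).IsSimple p := by
  classical
  have hEP : baseE ι ≤ baseE ι ⊔ sqR ι κ := le_sup_left
  have hRP : sqR ι κ ≤ baseE ι ⊔ sqR ι κ := le_sup_right
  have hES := hEP.trans hP
  have hRS := hRP.trans hP
  refine groupFusion_simple_act ?_ (noClosed S (Or.inr (by rw [Fintype.card_fin]; exact hn))) ?_
  · intro h
    have hk : 0 < k := lt_of_lt_of_le hp.out.pos hpk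
    have hm := hES (shift_mem_baseE ι hodd (Pi.single (⟨0, hk⟩ : Fin k) 1))
    rw [h, Subgroup.mem_bot] at hm
    have h1 := congrArg (fun g : alternatingGroup (Fin n) => (g : Perm (Fin n)) (ι (⟨0, hk⟩, 0))) hm
    simp only [OneMemClass.coe_one, Perm.one_apply, single_moves] at h1
    exact ne_add_one (0 : ZMod p) (congrArg Prod.snd (ι.injective h1))
  intro E hsat hinv
  have hEc := isCentric_of_centralizer_le_group hES (centralizer_baseE ι hrest hodd)
  have hRc := isCentric_of_centralizer_le_group hRS (centralizer_sqR ι κ hrest hodd)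
  -- the subgroup of the affine group acting through `E`
  set D : Subgroup (Perm (Blk k p)) :=
    ((actSub E (baseE ι)).map (alternatingGroup (Fin n)).subtype).comap (ext' ι) with hD
  have hDp : ∀ (σ : Perm (Fin k)) (a : Fin k → (ZMod p)ˣ) (v : Fin k → ZMod p) (m : ℕ),
      (liftB σ * mulB a * shift v) ^ p ^ m = 1 → liftB σ * mulB a * shift v ∈ D := by
    intro σ a v m h
    exact ⟨⟨_, ext'_pow_mem ι hodd h⟩, mem_actSub_of_pElement hinv hES
      (mem_normalizer_baseE ι rfl) (k := m)
      (Subtype.ext (by show ext' ι _ ^ p ^ m = 1; rw [← map_pow, h, map_one])), rfl⟩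
  obtain ⟨hshift, hlift, hmul⟩ := affine_mem hodd hpk hDp
  have hdB : ∀ u, dB κ u ∈ D := by
    intro u
    set P := baseE ι ⊔ sqR ι κ with hPdef
    have hsh : ∀ c, ext' ι (zext κ (shearX c)) ∈ alternatingGroup (Fin n) ∧
        ext' ι (zext κ (shearY c)) ∈ alternatingGroup (Fin n) := fun c =>
      ⟨ext'_pow_mem ι hodd (m := 1) (by rw [pow_one, ← map_pow, shearX_pow, map_one]),
        ext'_pow_mem ι hodd (m := 1) (by rw [pow_one, ← map_pow, shearY_pow, map_one])⟩
    have hXR : ∀ c, (⟨_, (hsh c).1⟩ : alternatingGroup (Fin n)) ∈ actSub E (sqR ι κ) ⊓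
        Subgroup.normalizer ((sqR ι κ : Subgroup _) : Set (alternatingGroup (Fin n))) := by
      intro c
      have hn := mem_normalizer_sqR ι κ (g := ⟨_, (hsh c).1⟩) (f := shearX c) (shearX c)
        (shearX c).symm (shearX_addZ c) (shearX c).apply_symm_apply rfl
      exact ⟨mem_actSub_of_pElement hinv hRS hn (k := 1) (Subtype.ext (by
        show ext' ι (zext κ (shearX c)) ^ p ^ 1 = 1
        rw [pow_one, ← map_pow, ← map_pow, shearX_pow, map_one, map_one])), hn⟩
    have hYR : ∀ c, (⟨_, (hsh c).2⟩ : alternatingGroup (Fin n)) ∈ actSub E (sqR ι κ) ⊓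
        Subgroup.normalizer ((sqR ι κ : Subgroup _) : Set (alternatingGroup (Fin n))) := by
      intro c
      have hn := mem_normalizer_sqR ι κ (g := ⟨_, (hsh c).2⟩) (f := shearY c) (shearY c)
        (shearY c).symm (shearY_addZ c) (shearY c).apply_symm_apply rfl
      exact ⟨mem_actSub_of_pElement hinv hRS hn (k := 1) (Subtype.ext (by
        show ext' ι (zext κ (shearY c)) ^ p ^ 1 = 1
        rw [pow_one, ← map_pow, ← map_pow, shearY_pow, map_one, map_one])), hn⟩
    set x₁ : alternatingGroup (Fin n) := ⟨_, (hsh (u : ZMod p)).1⟩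
    set y₁ : alternatingGroup (Fin n) := ⟨_, (hsh (-((u⁻¹ : (ZMod p)ˣ) : ZMod p))).2⟩
    set x₂ : alternatingGroup (Fin n) := ⟨_, (hsh (-1 : ZMod p)).1⟩
    set y₂ : alternatingGroup (Fin n) := ⟨_, (hsh (1 : ZMod p)).2⟩
    set d := x₁ * y₁ * x₁ * x₂ * y₂ * x₂ with hd
    have hdval : (d : Perm (Fin n)) = ext' ι (dB κ u) := by
      simp only [hd, x₁, y₁, x₂, y₂, Subgroup.coe_mul, dB, diagZ, map_mul]
    have hdR : d ∈ actSub E (sqR ι κ) ⊓
        Subgroup.normalizer ((sqR ι κ : Subgroup _) : Set (alternatingGroup (Fin n))) :=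
      mul_mem (mul_mem (mul_mem (mul_mem (mul_mem (hXR _) (hYR _)) (hXR _)) (hXR _)) (hYR _)) (hXR _)
    obtain ⟨σ, a, hσa, -⟩ := dB_eq κ u
    have hdE : d ∈ Subgroup.normalizer ((baseE ι : Subgroup _) : Set (alternatingGroup (Fin n))) :=
      mem_normalizer_baseE ι (σ := σ) (a := a) (v := 0) (by rw [hdval, hσa, shift_zero, mul_one])
    have hdP : d ∈ Subgroup.normalizer ((P : Subgroup _) : Set (alternatingGroup (Fin n))) :=
      Subgroup.normalizer_inf_normalizer_le_normalizer_sup (baseE ι) (sqR ι κ) ⟨hdE, hdR.2⟩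
    have h1 := mem_actSub_climb hsat hinv hRc hRP hP hdP hdR.1
    exact ⟨d, mem_actSub_restrict hEP hP hdE h1, hdval⟩
  intro g hg
  obtain ⟨-, hNE⟩ := normalizer_le_of_baseE_le ι hrest hodd S hES
  have hgE := hNE hg
  refine mem_actSub_climb hsat hinv hEc hES le_rfl hg ?_
  obtain ⟨σ, a, v, hgv⟩ := normalizer_baseE ι hrest hodd hgE
  obtain ⟨σ', a', hd', ha'⟩ := dB_eq κ (∏ i, a i)⁻¹
  rw [inv_inv] at ha'
  have hdmem := hdB (∏ i, a i)⁻¹
  rw [hd'] at hdmem
  set b : Fin k → (ZMod p)ˣ := a * a'⁻¹ with hb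
  have hbD : mulB b ∈ D := hmul b (by
    rw [hb, Finset.prod_congr rfl fun l _ => Pi.mul_apply a a'⁻¹ l, Finset.prod_mul_distrib,
      Finset.prod_congr rfl fun l _ => Pi.inv_apply a' l, Finset.prod_inv_distrib, ha', mul_inv_cancel])
  have hG : ∀ y ∈ D, ext' ι y ∈ alternatingGroup (Fin n) := by
    rintro y ⟨z, -, hz⟩
    exact hz ▸ z.2
  have hσ : σ * σ'⁻¹ ∈ alternatingGroup (Fin k) := by
    have e : liftB (σ * σ'⁻¹) =
        liftB σ * mulB a * shift v * (shift v)⁻¹ * (mulB b)⁻¹ * (liftB σ' * mulB a')⁻¹ := by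
      rw [mul_inv_cancel_right, mul_assoc (liftB σ), mulB_inv, mulB_mul,
        show a * b⁻¹ = a' by simp [hb], _root_.mul_inv_rev, ← mul_assoc, mul_inv_cancel_right, map_mul,
        map_inv]
    have hmem : ext' ι (liftB (σ * σ'⁻¹)) ∈ alternatingGroup (Fin n) := by
      rw [e, map_mul, map_mul, map_mul, map_inv, map_inv, map_inv]
      refine mul_mem (mul_mem (mul_mem ?_ (inv_mem (hG _ (hshift v)))) (inv_mem (hG _ hbD)))
        (inv_mem (hG _ hdmem))
      rw [← hgv]
      exact g.2
    have hsign : Perm.sign (ext' ι (liftB (σ * σ'⁻¹))) = Perm.sign (σ * σ'⁻¹) ^ p := by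
      rw [ext', Perm.viaEmbeddingHom_apply, Perm.viaEmbedding, Perm.sign_extendDomain]
      have : (liftB (σ * σ'⁻¹) : Perm (Blk k p)) =
          Equiv.prodCongrLeft fun _ => σ * σ'⁻¹ := Equiv.ext fun _ => rfl
      rw [this, Equiv.Perm.sign_prodCongrLeft, Finset.prod_const, Finset.card_univ, ZMod.card]
    rw [Perm.mem_alternatingGroup] at hmem ⊢
    rw [hsign] at hmem
    rcases Int.units_eq_one_or (Perm.sign (σ * σ'⁻¹)) with h | h
    · exact h
    · rw [h, hodd.neg_one_pow] at hmem
      exact absurd hmem (by decide)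
  have hfin : liftB σ * mulB a * shift v ∈ D := by
    have e : liftB σ * mulB a * shift v = liftB (σ * σ'⁻¹) * (liftB σ' * mulB a') * mulB b * shift v := by
      rw [map_mul, map_inv, mul_assoc (liftB σ * (liftB σ')⁻¹) (liftB σ' * mulB a'),
        mul_assoc (liftB σ') (mulB a'), mulB_mul, ← mul_assoc, inv_mul_cancel_right,
        show a' * b = a by rw [hb, mul_comm a, mul_inv_cancel_left]]
    rw [e]
    exact mul_mem (mul_mem (mul_mem (hlift _ hσ) hdmem) hbD) (hshift v)
  obtain ⟨z, hz, hzv⟩ := hfin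
  have : g = z := Subtype.ext (hgv.trans hzv.symm)
  exact this ▸ hz

theorem alt_simple_odd {n p : ℕ} [hp : Fact p.Prime] (hodd : Odd p) (hnp : p ^ 2 ≤ n)
    (hb : n % p ≤ 1) (S : Sylow p (alternatingGroup (Fin n))) :
    (Cfsg.groupFusionSystem (S : Subgroup (alternatingGroup (Fin n)))).IsSimple p := by
  have hp0 := hp.out.pos
  have hp2 := hp.out.two_le
  have hpk : p ≤ n / p := by
    rw [Nat.le_div_iff_mul_le hp0, ← pow_two]
    exact hnp
  have hkn : n / p * p ≤ n := Nat.div_mul_le_self n p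
  obtain ⟨ι₀⟩ : Nonempty (Blk (n / p) p ↪ Fin n) :=
    Function.Embedding.nonempty_of_card_le (by
      rw [Fintype.card_prod, Fintype.card_fin, ZMod.card, Fintype.card_fin]; exact hkn)
  obtain ⟨κ⟩ : Nonempty (ZMod p ↪ Fin (n / p)) :=
    Function.Embedding.nonempty_of_card_le (by rw [ZMod.card, Fintype.card_fin]; exact hpk)
  set P := baseE ι₀ ⊔ sqR ι₀ κ with hP
  have hPp : IsPGroup p P := by
    rw [hP, sup_comm]
    exact (isPGroup_sqR ι₀ κ).to_sup_of_normal_right' (isPGroup_baseE ι₀)
      (sqR_le_normalizer_baseE ι₀ κ)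
  obtain ⟨R, hR⟩ := hPp.exists_le_sylow
  obtain ⟨h, hh⟩ := MulAction.exists_smul_eq (alternatingGroup (Fin n)) R S
  set ι := ι₀.trans (h : Perm (Fin n)).toEmbedding with hι
  have hS : (S : Subgroup (alternatingGroup (Fin n))) = (R : Subgroup (alternatingGroup (Fin n))).map (MulAut.conj h).toMonoidHom := by
    rw [← hh, Sylow.coe_subgroup_smul]; rfl
  have hback : ∀ (g : alternatingGroup (Fin n)) (y : Perm (Blk (n / p) p)),
      (g : Perm (Fin n)) = ext' ι y → ((h⁻¹ * g * h : alternatingGroup (Fin n)) : Perm (Fin n)) = ext' ι₀ y := by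
    intro g y hg
    rw [Subgroup.coe_mul, Subgroup.coe_mul, InvMemClass.coe_inv, hg, hι, ext'_conj]
    group
  have hmem : ∀ g : alternatingGroup (Fin n), h⁻¹ * g * h ∈ P → g ∈ (S : Subgroup (alternatingGroup (Fin n))) := by
    intro g hg
    rw [hS]
    exact ⟨_, hR hg, by simp [mul_assoc]⟩
  have hrest : ∀ x y : Fin n, x ∉ Set.range ι → y ∉ Set.range ι → x = y := by
    intro x y hx hy
    by_contra hne
    have hcard : ((Finset.univ.map ι) ∪ {x, y}).card ≤ n := by
      simpa using Finset.card_le_univ ((Finset.univ.map ι) ∪ {x, y})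
    rw [Finset.card_union_of_disjoint, Finset.card_map, Finset.card_univ, Fintype.card_prod,
      Fintype.card_fin, ZMod.card, Finset.card_pair hne] at hcard
    · have := Nat.div_add_mod n p
      rw [mul_comm] at this
      omega
    · rw [Finset.disjoint_right]
      intro z hz hz'
      obtain ⟨w, -, rfl⟩ := Finset.mem_map.mp hz'
      rcases Finset.mem_insert.mp hz with e | e
      · exact hx ⟨w, e⟩
      · exact hy ⟨w, Finset.mem_singleton.mp e⟩
  refine alt_simple_odd_of ι κ hrest hodd hpk (by nlinarith) S (sup_le ?_ ?_)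
  · rintro g ⟨v, hv⟩
    exact hmem g (le_sup_left (b := sqR ι₀ κ) ⟨v, hback g _ hv⟩)
  · rintro g ⟨w, v, hv, hg⟩
    exact hmem g (le_sup_right (a := baseE ι₀) ⟨w, v, hv, hback g _ hg⟩)

end Cfsg.Agent.Fusion91.Alt
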