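import Mathlib.GroupTheory.Perm.Cycle.Type
import Mathlib.GroupTheory.SpecificGroups.Alternating.Centralizer
import Mathlib.GroupTheory.PGroup
import Mathlib.Tactic

set_option autoImplicit false

/-! Decomposing a permutation of `p`-power order into one of smaller order times a commuting family. -/

namespace Cfsg.Agent.Fusion91.Alt

open Equiv Equiv.Perm

variable {α : Type*}

theorem app_inv (g : Perm α) (t : α) : g (g⁻¹ t) = t := g.apply_symm_apply t

theorem inv_app (g : Perm α) (t : α) : g⁻¹ (g t) = t := g.symm_apply_apply t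

/-- Permutations commuting with `z` that move every point along its `z`-orbit. -/
def pieces (z : Perm α) : Subgroup (Perm α) where
  carrier := {g | Commute g z ∧ ∀ t, ∃ k : ℤ, g t = (z ^ k) t}
  one_mem' := ⟨Commute.one_left z, fun t => ⟨0, rfl⟩⟩
  mul_mem' {g h} hg hh := ⟨hg.1.mul_left hh.1, fun t => by
    obtain ⟨a, ha⟩ := hh.2 t
    obtain ⟨b, hb⟩ := hg.2 t
    refine ⟨a + b, ?_⟩
    rw [Perm.mul_apply, ha, ← Perm.mul_apply, (hg.1.zpow_right a).eq, Perm.mul_apply, hb,
      ← Perm.mul_apply, ← zpow_add]⟩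
  inv_mem' {g} hg := ⟨hg.1.inv_left, fun t => by
    obtain ⟨a, ha⟩ := hg.2 (g⁻¹ t)
    refine ⟨-a, ?_⟩
    rw [app_inv] at ha
    rw [zpow_neg, Perm.eq_inv_iff_eq]
    exact ha.symm⟩

theorem pieces_pow {p : ℕ} {z : Perm α} (hz : z ^ p = 1) {g : Perm α} (hg : g ∈ pieces z) :
    g ^ p = 1 := by
  refine Equiv.ext fun t => ?_
  obtain ⟨a, ha⟩ := hg.2 t
  have key : ∀ i : ℕ, (g ^ i) t = (z ^ (a * i)) t := by
    intro i
    induction i with
    | zero => simp
    | succ i ih =>
      rw [pow_succ', Perm.mul_apply, ih, ← Perm.mul_apply, (hg.1.zpow_right _).eq, Perm.mul_apply,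
        ha, ← Perm.mul_apply, ← zpow_add]
      push_cast
      ring_nf
  rw [key, mul_comm, zpow_mul, zpow_natCast, hz, one_zpow]

theorem pieces_conj {z x g : Perm α} (hx : Commute x z) (hg : g ∈ pieces z) :
    x * g * x⁻¹ ∈ pieces z := by
  refine ⟨(hx.mul_left hg.1).mul_left hx.inv_left, fun t => ?_⟩
  obtain ⟨a, ha⟩ := hg.2 (x⁻¹ t)
  refine ⟨a, ?_⟩
  rw [Perm.mul_apply, Perm.mul_apply, ha, ← Perm.mul_apply, (hx.zpow_right a).eq, Perm.mul_apply,
    app_inv]

variable [Fintype α] [DecidableEq α]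

theorem fix_zpow_eq_one {c : Perm α} (hc : c.IsCycle) {r : α} (hr : c r ≠ r) {n : ℤ}
    (h : (c ^ n) r = r) : c ^ n = 1 := by
  refine Equiv.ext fun t => ?_
  by_cases ht : c t = t
  · exact zpow_apply_eq_self_of_apply_eq_self ht n
  · obtain ⟨i, rfl⟩ := hc.exists_pow_eq hr ht
    rw [← Perm.mul_apply, ((Commute.refl c).zpow_left n).pow_right i |>.eq, Perm.mul_apply, h]
    rfl

theorem exists_piece_cycle {p k : ℕ} [hp : Fact p.Prime] {c : Perm α} (hc : c.IsCycle)
    (hck : c ^ p ^ (k + 1) = 1) :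
    ∃ z e : Perm α, z ^ p = 1 ∧ Commute c z ∧ z.support ⊆ c.support ∧ e ∈ pieces z ∧
      Perm.sign e = Perm.sign c ∧ (c * e) ^ p ^ k = 1 := by
  classical
  obtain ⟨f, hfk, hf⟩ := (Nat.dvd_prime_pow hp.out).mp (orderOf_dvd_of_pow_eq_one hck)
  have hL2 : 2 ≤ orderOf c := by
    rw [hc.orderOf]
    exact hc.two_le_card_support
  obtain ⟨f', rfl⟩ : ∃ f', f = f' + 1 := by
    rcases f with _ | f
    · rw [hf, pow_zero] at hL2; omega
    · exact ⟨f, rfl⟩
  set M := p ^ f' with hM
  have hMpos : 0 < M := pow_pos hp.out.pos _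
  set z := c ^ M with hzdef
  have hzp : z ^ p = 1 := by rw [hzdef, ← pow_mul, hM, ← pow_succ, ← hf, pow_orderOf_eq_one]
  obtain ⟨r, hr, hcr⟩ := hc
  have hc : c.IsCycle := ⟨r, hr, hcr⟩
  set e := z⁻¹.cycleOf r with he
  have hzr : z r ≠ r := by
    intro h
    have := fix_zpow_eq_one hc hr (n := (M : ℤ)) (by rw [zpow_natCast]; exact h)
    rw [zpow_natCast] at this
    have h2 := Nat.le_of_dvd hMpos (orderOf_dvd_of_pow_eq_one this)
    rw [hf, pow_succ, ← hM] at h2
    have := hp.out.two_le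
    nlinarith
  have hzr' : z⁻¹ r ≠ r := fun h => hzr (Perm.eq_inv_iff_eq.mp h.symm)
  have hmem : e ∈ pieces z := by
    refine ⟨?_, fun t => ?_⟩
    · refine Equiv.ext fun t => ?_
      have hiff : z⁻¹.SameCycle r (z t) ↔ z⁻¹.SameCycle r t := by
        rw [Perm.sameCycle_inv, Perm.sameCycle_inv, Perm.sameCycle_apply_right]
      rw [Perm.mul_apply, Perm.mul_apply, he, Perm.cycleOf_apply, Perm.cycleOf_apply]
      by_cases h : z⁻¹.SameCycle r t
      · rw [if_pos h, if_pos (hiff.mpr h), inv_app, app_inv]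
      · rw [if_neg h, if_neg (mt hiff.mp h)]
    · rw [he, Perm.cycleOf_apply]
      split_ifs
      · exact ⟨-1, by simp⟩
      · exact ⟨0, by simp⟩
  refine ⟨z, e, hzp, Commute.self_pow c M, Perm.support_pow_le c M, hmem, ?_, ?_⟩
  · have hecyc : e.IsCycle := Perm.isCycle_cycleOf _ hzr'
    have hep : e ^ p = 1 := pieces_pow hzp hmem
    have he2 : orderOf e = p := orderOf_eq_prime hep hecyc.ne_one
    rw [hecyc.sign, hc.sign, ← hecyc.orderOf, ← hc.orderOf, he2, hf, pow_succ]
    rcases hp.out.eq_two_or_odd' with rfl | hodd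
    · simp
    · rw [hodd.neg_one_pow, (hodd.pow.mul hodd).neg_one_pow]
  · -- the product permutes the points in steps of one inside each block
    have hsame : ∀ j : ℤ, z⁻¹.SameCycle r ((c ^ j) r) ↔ (M : ℤ) ∣ j := by
      intro j
      rw [Perm.sameCycle_inv]
      constructor
      · rintro ⟨i, hi⟩
        have h2 : (c ^ ((M : ℤ) * i - j)) r = r := by
          rw [zpow_sub, ← zpow_neg, ← zpow_add, add_comm, zpow_add, Perm.mul_apply, zpow_mul,
            zpow_natCast, ← hzdef, hi, ← Perm.mul_apply, ← zpow_add]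
          simp
        have h3 := orderOf_dvd_iff_zpow_eq_one.mpr (fix_zpow_eq_one hc hr h2)
        have h4 : (M : ℤ) ∣ (M : ℤ) * i - j := dvd_trans (by rw [hf, pow_succ]; push_cast; exact dvd_mul_right _ _) h3
        exact (dvd_sub_right (dvd_mul_right _ _)).mp h4
      · rintro ⟨i, rfl⟩
        exact ⟨i, by rw [zpow_mul, zpow_natCast]⟩
    have hstep : ∀ (a : ℤ) (b : ℕ), b < M → (c * e) ((c ^ (a * M + b + 1)) r) =
        (c ^ (a * M + ((b + 1) % M : ℕ) + 1)) r := by
      intro a b hb
      rw [Perm.mul_apply, he, Perm.cycleOf_apply]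
      by_cases hdiv : b + 1 = M
      · rw [if_pos ((hsame _).mpr ⟨a + 1, by rw [← hdiv]; push_cast; ring⟩), hdiv, Nat.mod_self,
          hzdef, ← zpow_natCast, ← zpow_neg, ← Perm.mul_apply, ← Perm.mul_apply, mul_assoc, ← zpow_add,
          ← zpow_one_add, ← hdiv]
        congr 2
        push_cast
        ring
      · rw [if_neg, Nat.mod_eq_of_lt (by omega), ← Perm.mul_apply, ← zpow_one_add]
        · congr 2
          push_cast
          ring
        · rw [hsame]
          intro hd
          have : (M : ℤ) ∣ ((b + 1 : ℕ) : ℤ) := by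
            have h2 : ((b + 1 : ℕ) : ℤ) = (a * M + b + 1) - (M : ℤ) * a := by push_cast; ring
            rw [h2]
            exact dvd_sub hd (dvd_mul_right _ _)
          have h3 := Nat.le_of_dvd (by omega) (Int.natCast_dvd_natCast.mp this)
          omega
    have hiter : ∀ (i : ℕ) (a : ℤ) (b : ℕ), b < M → ((c * e) ^ i) ((c ^ (a * M + b + 1)) r) =
        (c ^ (a * M + ((b + i) % M : ℕ) + 1)) r := by
      intro i
      induction i with
      | zero => intro a b hb; rw [pow_zero, Perm.one_apply, add_zero, Nat.mod_eq_of_lt hb]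
      | succ i ih =>
        intro a b hb
        rw [pow_succ', Perm.mul_apply, ih a b hb, hstep a _ (Nat.mod_lt _ hMpos), Nat.mod_add_mod,
          ← add_assoc]
    have hone : (c * e) ^ M = 1 := by
      refine Equiv.ext fun t => ?_
      by_cases ht : c t = t
      · refine pow_apply_eq_self_of_apply_eq_self ?_ M
        rw [Perm.mul_apply, he, Perm.cycleOf_apply_of_not_sameCycle, ht]
        rintro ⟨i, hi⟩
        apply hr
        have h1 : ((z⁻¹) ^ i)⁻¹ t = t := by
          have hzt : z t = t := pow_apply_eq_self_of_apply_eq_self ht M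
          rw [← zpow_neg, inv_zpow', neg_neg]
          exact zpow_apply_eq_self_of_apply_eq_self hzt i
        have h2 := congrArg (⇑(((z⁻¹) ^ i)⁻¹)) hi
        rw [inv_app, h1] at h2
        rw [h2]
        exact ht
      · obtain ⟨j, rfl⟩ := hc.exists_pow_eq hr ht
        have hj : ((j : ℤ) - 1) / M * M + ((((j : ℤ) - 1) % M).toNat : ℕ) + 1 = j := by
          rw [Int.toNat_of_nonneg (Int.emod_nonneg _ (by omega))]
          have := Int.ediv_mul_add_emod ((j : ℤ) - 1) M
          omega
        have hb : (((j : ℤ) - 1) % M).toNat < M := by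
          have := Int.emod_lt_of_pos ((j : ℤ) - 1) (b := (M : ℤ)) (by omega)
          omega
        rw [Perm.one_apply]
        have h := hiter M (((j : ℤ) - 1) / M) _ hb
        rw [Nat.add_mod_right, Nat.mod_eq_of_lt hb, hj, zpow_natCast] at h
        exact h
    obtain ⟨d, hd⟩ := Nat.pow_dvd_pow p (show f' ≤ k by omega)
    rw [hd, pow_mul, ← hM, hone, one_pow]

/-- Lowering the order of a permutation of prime power order by a commuting family of orbit moves. -/
theorem exists_piece {p k : ℕ} [hp : Fact p.Prime] (σ : Perm α) :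
    σ ^ p ^ (k + 1) = 1 →
    ∃ z e : Perm α, z ^ p = 1 ∧ Commute σ z ∧ z.support ⊆ σ.support ∧ e ∈ pieces z ∧
      Perm.sign e = Perm.sign σ ∧ (σ * e) ^ p ^ k = 1 := by
  induction σ using Perm.cycle_induction_on with
  | base_one => exact fun _ => ⟨1, 1, one_pow _, Commute.one_left _, by simp, one_mem _, rfl, by simp⟩
  | base_cycles σ hσ => exact fun h => exists_piece_cycle hσ h
  | induction_disjoint σ τ hd hσ iσ iτ =>
    intro h
    rw [(hd.commute).mul_pow] at h
    obtain ⟨h1, h2⟩ := (hd.pow_disjoint_pow _ _).mul_eq_one_iff.mp h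
    obtain ⟨z₁, e₁, a1, a2, a3, a4, a5, a6⟩ := iσ h1
    obtain ⟨z₂, e₂, b1, b2, b3, b4, b5, b6⟩ := iτ h2
    have fix : ∀ {z e : Perm α}, e ∈ pieces z → e.support ⊆ z.support := by
      intro z e he t ht
      rw [Perm.mem_support] at ht ⊢
      intro hz
      obtain ⟨a, ha⟩ := he.2 t
      exact ht (ha.trans (zpow_apply_eq_self_of_apply_eq_self hz a))
    have dz : z₁.Disjoint z₂ := hd.mono a3 b3
    have dσz : σ.Disjoint z₂ := hd.mono le_rfl b3
    have dτz : τ.Disjoint z₁ := hd.symm.mono le_rfl a3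
    have de : e₁.Disjoint e₂ := dz.mono (fix a4) (fix b4)
    have dez : e₁.Disjoint z₂ := dz.mono (fix a4) le_rfl
    have dze : z₁.Disjoint e₂ := dz.mono le_rfl (fix b4)
    have dτe : τ.Disjoint e₁ := dτz.mono le_rfl (fix a4)
    have dσe : σ.Disjoint e₂ := dσz.mono le_rfl (fix b4)
    refine ⟨z₁ * z₂, e₁ * e₂, ?_, ?_, ?_, ⟨?_, fun t => ?_⟩, ?_, ?_⟩
    · rw [dz.commute.mul_pow, a1, b1, one_mul]
    · exact (a2.mul_right dσz.commute).mul_left (dτz.commute.mul_right b2)
    · rw [dz.support_mul, hd.support_mul]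
      exact Finset.union_subset_union a3 b3
    · exact (a4.1.mul_right dez.commute).mul_left (dze.symm.commute.mul_right b4.1)
    · rcases dz t with h | h
      · obtain ⟨a, ha⟩ := b4.2 t
        refine ⟨a, ?_⟩
        have h' : z₁ (e₂ t) = e₂ t := by
          rw [← Perm.mul_apply, dze.commute.eq, Perm.mul_apply, h]
        have he1 : e₁ (e₂ t) = e₂ t := by
          by_contra hne
          exact (Perm.mem_support.mp (fix a4 (Perm.mem_support.mpr hne))) h'
        rw [Perm.mul_apply, he1, dz.commute.mul_zpow, Perm.mul_apply, ha]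
        exact (zpow_apply_eq_self_of_apply_eq_self (ha ▸ h') a).symm
      · obtain ⟨a, ha⟩ := a4.2 t
        refine ⟨a, ?_⟩
        have he2 : e₂ t = t := by
          by_contra hne
          exact (Perm.mem_support.mp (fix b4 (Perm.mem_support.mpr hne))) h
        rw [Perm.mul_apply, he2, dz.commute.mul_zpow, Perm.mul_apply,
          zpow_apply_eq_self_of_apply_eq_self h a, ha]
    · rw [map_mul, map_mul, a5, b5]
    · have hc : Commute (σ * e₁) (τ * e₂) :=
        (hd.commute.mul_right dσe.commute).mul_left (dτe.symm.commute.mul_right de.commute)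
      rw [show σ * τ * (e₁ * e₂) = σ * e₁ * (τ * e₂) by
        rw [mul_assoc, ← mul_assoc τ, dτe.commute.eq, mul_assoc, mul_assoc], hc.mul_pow, a6, b6,
        one_mul]

end Cfsg.Agent.Fusion91.Alt
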