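import Cfsg.Agent.Fusion91.Alt.Blocks
import Cfsg.Agent.Fusion91.Alt.Closed

set_option autoImplicit false

/-! The elementary abelian subgroups of an alternating group attached to a block decomposition. -/

namespace Cfsg.Agent.Fusion91.Alt

open Equiv Equiv.Perm

variable {n p k : ℕ} [hp : Fact p.Prime]

/-- Extension from the blocks to all points. -/
noncomputable def ext' (ι : Blk k p ↪ Fin n) : Perm (Blk k p) →* Perm (Fin n) :=
  Perm.viaEmbeddingHom ι

variable (ι : Blk k p ↪ Fin n)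

theorem ext'_in (f : Perm (Blk k p)) (x : Blk k p) : ext' ι f (ι x) = ι (f x) :=
  Perm.viaEmbedding_apply f ι x

theorem ext'_out (f : Perm (Blk k p)) {x : Fin n} (hx : x ∉ Set.range ι) : ext' ι f x = x :=
  Perm.viaEmbedding_apply_of_notMem f ι x hx

theorem ext'_inj : Function.Injective (ext' ι) := Perm.viaEmbeddingHom_injective ι

theorem ext'_conj (h : Perm (Fin n)) (f : Perm (Blk k p)) :
    ext' (ι.trans h.toEmbedding) f = h * ext' ι f * h⁻¹ := by
  refine Equiv.ext fun x => ?_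
  obtain ⟨y, rfl⟩ := h.surjective x
  rw [Perm.mul_apply, Perm.mul_apply, inv_app]
  by_cases hy : y ∈ Set.range ι
  · obtain ⟨z, rfl⟩ := hy
    rw [ext'_in]
    exact ext'_in (ι.trans h.toEmbedding) f z
  · rw [ext'_out ι f hy]
    refine ext'_out (ι.trans h.toEmbedding) f fun ⟨z, hz⟩ => hy ⟨z, h.injective hz⟩

/-- Elements of odd order are even. -/
theorem mem_alt_of_pow (hodd : Odd p) {y : Perm (Fin n)} {m : ℕ} (h : y ^ p ^ m = 1) :
    y ∈ alternatingGroup (Fin n) := coe_pow_eq_one h hodd.pow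

theorem ext'_pow_mem (hodd : Odd p) {y : Perm (Blk k p)} {m : ℕ} (h : y ^ p ^ m = 1) :
    ext' ι y ∈ alternatingGroup (Fin n) :=
  mem_alt_of_pow (p := p) hodd (by rw [← map_pow, h, map_one])

/-- The translations in all blocks. -/
noncomputable def baseE : Subgroup (alternatingGroup (Fin n)) where
  carrier := {g | ∃ v, (g : Perm (Fin n)) = ext' ι (shift v)}
  one_mem' := ⟨0, by rw [shift_zero, map_one]; rfl⟩
  mul_mem' := by
    rintro a b ⟨v, hv⟩ ⟨w, hw⟩
    exact ⟨v + w, by rw [Subgroup.coe_mul, hv, hw, ← map_mul, shift_add]⟩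
  inv_mem' := by
    rintro a ⟨v, hv⟩
    exact ⟨-v, by rw [InvMemClass.coe_inv, hv, ← map_inv, shift_inv]⟩

variable (κ : ZMod p ↪ Fin k)

/-- The element of the square subgroup. -/
noncomputable def sqElt (w : ZMod p × ZMod p) (v : Fin k → ZMod p) : Perm (Blk k p) :=
  zext κ (addZ w) * shift v

theorem sqElt_mul {v v' : Fin k → ZMod p} (hv : ∀ s, v (κ s) = 0) (w w' : ZMod p × ZMod p) :
    sqElt κ w v * sqElt κ w' v' = sqElt κ (w + w') (v + v') := by
  rw [sqElt, sqElt, sqElt, mul_assoc, ← mul_assoc (shift v), ← (zext_comm_shift κ _ hv).eq,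
    mul_assoc, shift_add, ← mul_assoc, ← map_mul, addZ_add]

theorem sqElt_zero : sqElt κ (0 : ZMod p × ZMod p) 0 = 1 := by
  rw [sqElt, shift_zero, mul_one, show addZ (0 : ZMod p × ZMod p) = 1 from Equiv.ext fun z => by simp,
    map_one]

/-- Translations of a square block and translations in the other blocks. -/
noncomputable def sqR : Subgroup (alternatingGroup (Fin n)) where
  carrier := {g | ∃ w v, (∀ s, v (κ s) = 0) ∧ (g : Perm (Fin n)) = ext' ι (sqElt κ w v)}
  one_mem' := ⟨0, 0, fun _ => rfl, by rw [sqElt_zero, map_one]; rfl⟩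
  mul_mem' := by
    rintro a b ⟨w, v, hv, ha⟩ ⟨w', v', hv', hb⟩
    exact ⟨w + w', v + v', fun s => by rw [Pi.add_apply, hv, hv', add_zero],
      by rw [Subgroup.coe_mul, ha, hb, ← map_mul, sqElt_mul κ hv]⟩
  inv_mem' := by
    rintro a ⟨w, v, hv, ha⟩
    refine ⟨-w, -v, fun s => by rw [Pi.neg_apply, hv, neg_zero], ?_⟩
    rw [InvMemClass.coe_inv, ha, ← map_inv]
    refine congrArg _ (inv_eq_of_mul_eq_one_right ?_)
    rw [sqElt_mul κ hv, add_neg_cancel, add_neg_cancel, sqElt_zero]

theorem shift_mem_baseE (hodd : Odd p) (v : Fin k → ZMod p) :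
    (⟨ext' ι (shift v), ext'_pow_mem ι hodd (m := 1) (by rw [pow_one]; exact shift_pow_p v)⟩ :
      alternatingGroup (Fin n)) ∈ baseE ι :=
  ⟨v, rfl⟩

theorem addZ_pow_p (w : ZMod p × ZMod p) : addZ w ^ p = 1 := by
  rw [addZ_pow, show p • w = 0 by ext <;> simp]
  exact Equiv.ext fun z => by simp

theorem sqElt_pow_p {v : Fin k → ZMod p} (hv : ∀ s, v (κ s) = 0) (w : ZMod p × ZMod p) :
    sqElt κ w v ^ p = 1 := by
  rw [sqElt, (zext_comm_shift κ _ hv).mul_pow, ← map_pow, addZ_pow_p, map_one, shift_pow_p, one_mul]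

variable (hrest : ∀ x y : Fin n, x ∉ Set.range ι → y ∉ Set.range ι → x = y)

include hrest in
/-- A permutation commuting with a fixed set fixes the remaining point. -/
theorem eq_ext' {g : Perm (Fin n)} {f : Perm (Blk k p)} (h : ∀ x, g (ι x) = ι (f x)) :
    g = ext' ι f := by
  refine Equiv.ext fun x => ?_
  by_cases hx : x ∈ Set.range ι
  · obtain ⟨z, rfl⟩ := hx
    rw [h, ext'_in]
  · rw [ext'_out ι f hx]
    refine hrest _ _ (fun ⟨z, hz⟩ => hx ?_) hx
    obtain ⟨z', rfl⟩ := f.surjective z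
    rw [← h] at hz
    exact ⟨z', g.injective hz⟩

theorem moved_of_single {i : Fin k} {x : Fin n}
    (hx : ext' ι (shift (Pi.single i 1)) x ≠ x) : ∃ t, x = ι (i, t) := by
  by_cases hxr : x ∈ Set.range ι
  · obtain ⟨⟨j, t⟩, rfl⟩ := hxr
    by_cases hji : j = i
    · exact ⟨t, by rw [hji]⟩
    · exact absurd (by rw [ext'_in]; simp [hji]) hx
  · exact absurd (ext'_out ι _ hxr) hx

theorem single_moves (i : Fin k) (t : ZMod p) :
    ext' ι (shift (Pi.single i 1)) (ι (i, t)) = ι (i, t + 1) := by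
  rw [ext'_in]; simp

theorem ne_add_one (t : ZMod p) : t + 1 ≠ t := fun h => one_ne_zero (add_eq_left.mp h)

theorem map_add_nat {β : Type*} {P Q : ZMod p → β} {a : Perm β}
    (hP : ∀ t, a (P t) = P (t + 1)) (hQ : ∀ t, a (Q t) = Q (t + 1)) (h0 : P 0 = Q 0) :
    ∀ t, P t = Q t := by
  intro t
  obtain ⟨j, rfl⟩ : ∃ j : ℕ, (j : ZMod p) = t := ⟨t.val, ZMod.natCast_zmod_val t⟩
  induction j with
  | zero => simpa using h0
  | succ j ih => rw [Nat.cast_succ, ← hP, ← hQ, ih]

include hrest in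
theorem centralizer_baseE (hodd : Odd p) :
    Subgroup.centralizer ((baseE ι : Subgroup _) : Set (alternatingGroup (Fin n))) ≤ baseE ι := by
  intro g hg
  have hc : ∀ i, (g : Perm (Fin n)) * ext' ι (shift (Pi.single i 1)) =
      ext' ι (shift (Pi.single i 1)) * g := fun i =>
    (congrArg Subtype.val (hg _ (shift_mem_baseE ι hodd (Pi.single i 1)))).symm
  have hex : ∀ i, ∃ t, (g : Perm (Fin n)) (ι (i, 0)) = ι (i, t) := by
    intro i
    refine moved_of_single ι ?_
    rw [← Perm.mul_apply, ← hc i, Perm.mul_apply, single_moves]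
    intro h
    exact ne_add_one (0 : ZMod p) (congrArg Prod.snd (ι.injective (g.1.injective h)))
  choose v hv using hex
  refine ⟨v, eq_ext' ι hrest fun x => ?_⟩
  obtain ⟨i, t⟩ := x
  rw [shift_apply]
  refine map_add_nat (a := ext' ι (shift (Pi.single i 1))) (P := fun t => (g : Perm (Fin n)) (ι (i, t)))
    (Q := fun t => ι (i, t + v i)) (fun t => ?_) (fun t => ?_) (by simp [hv]) t
  · show ext' ι _ ((g : Perm (Fin n)) (ι (i, t))) = _
    rw [← Perm.mul_apply, ← hc i, Perm.mul_apply, single_moves]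
  · show ext' ι _ (ι (i, t + v i)) = _
    rw [single_moves, add_right_comm]

include hrest in
theorem centralizer_sqR (hodd : Odd p) :
    Subgroup.centralizer ((sqR ι κ : Subgroup _) : Set (alternatingGroup (Fin n))) ≤ sqR ι κ := by
  intro g hg
  have hcom : ∀ w v, (∀ s, v (κ s) = 0) → ∀ x,
      (g : Perm (Fin n)) (ext' ι (sqElt κ w v) x) = ext' ι (sqElt κ w v) ((g : Perm (Fin n)) x) := by
    intro w v hv x
    have := hg ⟨_, ext'_pow_mem ι hodd (m := 1) (by rw [pow_one]; exact sqElt_pow_p κ hv w)⟩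
      ⟨w, v, hv, rfl⟩
    exact (congrArg (fun z : alternatingGroup (Fin n) => (z : Perm (Fin n)) x) this).symm
  -- blocks outside the square
  have hout : ∀ i, i ∉ Set.range κ → ∃ a, ∀ t, (g : Perm (Fin n)) (ι (i, t)) = ι (i, t + a) := by
    intro i hi
    have hv : ∀ s, (Pi.single i (1 : ZMod p) : Fin k → ZMod p) (κ s) = 0 := fun s =>
      Pi.single_eq_of_ne (fun e => hi ⟨s, e⟩) _
    have h1 : ∀ x, (g : Perm (Fin n)) (ext' ι (shift (Pi.single i 1)) x) =
        ext' ι (shift (Pi.single i 1)) ((g : Perm (Fin n)) x) := by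
      intro x
      have := hcom 0 _ hv x
      rwa [sqElt, show addZ (0 : ZMod p × ZMod p) = 1 from Equiv.ext fun z => by simp, map_one,
        one_mul] at this
    obtain ⟨a, ha⟩ := moved_of_single ι (i := i) (x := (g : Perm (Fin n)) (ι (i, 0))) (by
      rw [← h1, single_moves]
      intro h
      exact ne_add_one (0 : ZMod p) (congrArg Prod.snd (ι.injective (g.1.injective h))))
    refine ⟨a, map_add_nat (a := ext' ι (shift (Pi.single i 1)))
      (fun t => ?_) (fun t => ?_) (by simp [ha])⟩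
    · rw [← h1, single_moves]
    · rw [single_moves, add_right_comm]
  choose! a ha using hout
  -- the square block
  have hsq : ∀ w : ZMod p × ZMod p, ∀ z : ZMod p × ZMod p,
      ext' ι (sqElt κ w 0) (ι (κ z.1, z.2)) = ι (κ (z + w).1, (z + w).2) := by
    intro w z
    rw [ext'_in, sqElt, shift_zero, mul_one, zext_in]
    rfl
  have hg0 : ∃ c : ZMod p × ZMod p, (g : Perm (Fin n)) (ι (κ 0, 0)) = ι (κ c.1, c.2) := by
    by_contra hno
    push Not at hno
    have hfix : ext' ι (sqElt κ ((0 : ZMod p), (1 : ZMod p)) 0) ((g : Perm (Fin n)) (ι (κ 0, 0))) =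
        (g : Perm (Fin n)) (ι (κ 0, 0)) := by
      by_cases hr : (g : Perm (Fin n)) (ι (κ 0, 0)) ∈ Set.range ι
      · obtain ⟨⟨j, t⟩, hjt⟩ := hr
        rw [← hjt, ext'_in, sqElt, shift_zero, mul_one, zext_out]
        rintro ⟨s, hs⟩
        exact hno (s, t) (by rw [← hjt]; simp only; rw [hs])
      · exact ext'_out ι _ hr
    rw [← hcom _ _ (fun _ => rfl)] at hfix
    have := hsq ((0 : ZMod p), (1 : ZMod p)) (0, 0)
    rw [(g : Perm (Fin n)).injective hfix] at this
    have h2 := congrArg Prod.snd (ι.injective this)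
    simp at h2
  obtain ⟨c, hc⟩ := hg0
  classical
  refine ⟨c, fun i => if i ∈ Set.range κ then 0 else a i, fun s => if_pos ⟨s, rfl⟩,
    eq_ext' ι hrest fun x => ?_⟩
  rcases blk_cases κ x with ⟨s, t, rfl⟩ | hx
  · have e : ((0 : ZMod p), (0 : ZMod p)) + (s, t) = (s, t) := by simp
    have h2 := hsq (s, t) (0, 0)
    rw [e] at h2
    have h3 := hcom (s, t) 0 (fun _ => rfl) (ι (κ 0, 0))
    rw [h2, hc, hsq (s, t) c] at h3
    rw [h3, sqElt, Perm.mul_apply, shift_apply]
    dsimp only
    rw [if_pos ⟨s, rfl⟩, add_zero, zext_in, addZ_apply]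
    exact congrArg (fun z : ZMod p × ZMod p => ι (κ z.1, z.2)) (add_comm c (s, t))
  · obtain ⟨i, t⟩ := x
    rw [ha i hx, sqElt, Perm.mul_apply, shift_apply, zext_out κ _ (by exact hx)]
    dsimp only
    rw [if_neg (by exact hx)]

include hrest in
/-- Structure of the normalizer of the translations. -/
theorem normalizer_baseE (hodd : Odd p) {g : alternatingGroup (Fin n)}
    (hg : g ∈ Subgroup.normalizer ((baseE ι : Subgroup _) : Set (alternatingGroup (Fin n)))) :
    ∃ (σ : Perm (Fin k)) (a : Fin k → (ZMod p)ˣ) (v : Fin k → ZMod p),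
      (g : Perm (Fin n)) = ext' ι (liftB σ * mulB a * shift v) := by
  have hblock : ∀ i, ∃ (j : Fin k) (b : ZMod p) (c : (ZMod p)ˣ), ∀ t,
      (g : Perm (Fin n)) (ι (i, t)) = ι (j, c * t + b) := by
    intro i
    obtain ⟨w, hw⟩ := (Subgroup.mem_normalizer_iff.mp hg _).mp (shift_mem_baseE ι hodd (Pi.single i 1))
    have hw' : (g : Perm (Fin n)) * ext' ι (shift (Pi.single i 1)) = ext' ι (shift w) * g := by
      rw [← hw]
      show _ = (g : Perm (Fin n)) * _ * (g : Perm (Fin n))⁻¹ * g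
      rw [inv_mul_cancel_right]
    have hstep : ∀ t, ext' ι (shift w) ((g : Perm (Fin n)) (ι (i, t))) =
        (g : Perm (Fin n)) (ι (i, t + 1)) := by
      intro t
      rw [← Perm.mul_apply, ← hw', Perm.mul_apply, single_moves]
    have hne : (g : Perm (Fin n)) (ι (i, 0)) ∈ Set.range ι := by
      by_contra hr
      have h := hstep 0
      rw [ext'_out ι _ hr] at h
      exact ne_add_one (0 : ZMod p) (congrArg Prod.snd (ι.injective (g.1.injective h.symm)))
    obtain ⟨⟨j, b⟩, hjb⟩ := hne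
    have hwj : w j ≠ 0 := by
      intro h0
      have h := hstep 0
      rw [← hjb, ext'_in, shift_apply] at h
      simp only at h
      rw [h0, add_zero, hjb] at h
      exact ne_add_one (0 : ZMod p) (congrArg Prod.snd (ι.injective (g.1.injective h.symm)))
    refine ⟨j, b, Units.mk0 _ hwj, map_add_nat (a := ext' ι (shift w)) (fun t => hstep t) (fun t => ?_)
      (by simp [hjb])⟩
    show ext' ι (shift w) (ι (j, w j * t + b)) = ι (j, w j * (t + 1) + b)
    rw [ext'_in, shift_apply]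
    dsimp only
    congr 2
    ring
  choose f b c hf using hblock
  have finj : Function.Injective f := by
    intro i i' hii
    set t : ZMod p := ((c i')⁻¹ : (ZMod p)ˣ) * (b i - b i') with ht
    have h : (g : Perm (Fin n)) (ι (i', t)) = (g : Perm (Fin n)) (ι (i, 0)) := by
      rw [hf, hf, hii, ht, ← mul_assoc, Units.mul_inv, one_mul, mul_zero, zero_add, sub_add_cancel]
    exact (congrArg Prod.fst (ι.injective (g.1.injective h))).symm
  refine ⟨Equiv.ofBijective f ⟨finj, Finite.surjective_of_injective finj⟩, c,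
    fun i => ((c i)⁻¹ : (ZMod p)ˣ) * b i, eq_ext' ι hrest fun x => ?_⟩
  obtain ⟨i, t⟩ := x
  rw [hf, Perm.mul_apply, Perm.mul_apply, shift_apply, mulB_apply, liftB_apply]
  show ι (f i, (c i : ZMod p) * t + b i) = ι (f i, _)
  congr 2
  rw [mul_add, ← mul_assoc, Units.mul_inv, one_mul]

end Cfsg.Agent.Fusion91.Alt
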