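import Cfsg.Agent.Fusion91.Alt.Closed
import Cfsg.Agent.Fusion91.Transport
import Cfsg.Agent.AltSylow.Main

set_option autoImplicit false

/-! The `2`-fusion system of an alternating group of degree at least `6` is simple. -/

namespace Cfsg.Agent.Fusion91.Alt

open Equiv

theorem normalizer_sylow_two {n : ℕ} (hn : 6 ≤ n) (S : Sylow 2 (alternatingGroup (Fin n))) :
    Subgroup.normalizer ((S : Subgroup (alternatingGroup (Fin n))) : Set (alternatingGroup (Fin n))) ≤
      (S : Subgroup (alternatingGroup (Fin n))) := by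
  set e := (AltSylow.equivFin n).altCongrHom with he
  obtain ⟨Q, hQ⟩ := AltSylow.exists_good (n / 2)
  obtain ⟨P, hP⟩ := AltSylow.exists_sylow_eq_evenPre (k := n / 2) (r := n % 2) (by omega) hQ
  have hN := AltSylow.normalizer_evenPre (k := n / 2) (r := n % 2) (by omega) (by omega) hQ
  rw [← hP] at hN
  obtain ⟨c, hc⟩ := MulAction.exists_smul_eq (alternatingGroup (Fin n))
    (P.mapSurjective (f := e.toMonoidHom) e.surjective) S
  have hS : (S : Subgroup (alternatingGroup (Fin n))) =
      ((P : Subgroup _).map e.toMonoidHom).map (MulAut.conj c).toMonoidHom := by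
    rw [← hc, Sylow.coe_subgroup_smul]
    rfl
  rw [hS, normalizer_map_equiv, normalizer_map_equiv]
  exact Subgroup.map_mono (Subgroup.map_mono hN)

theorem alt_simple_two {n : ℕ} (hn : 6 ≤ n) (S : Sylow 2 (alternatingGroup (Fin n))) :
    (Cfsg.groupFusionSystem (S : Subgroup (alternatingGroup (Fin n)))).IsSimple 2 := by
  refine groupFusion_simple_local 2 S ?_ (noClosed S (Or.inl rfl))
    fun g hg => ⟨g, normalizer_sylow_two hn S hg, fun _ _ => rfl⟩
  haveI : Nontrivial (Fin n) := Fin.nontrivial_iff_two_le.mpr (by omega)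
  refine S.ne_bot_of_dvd_card ?_
  rw [← Nat.card_eq_fintype_card.trans (Nat.card_eq_fintype_card (α := alternatingGroup (Fin n))).symm]
  have h := two_mul_nat_card_alternatingGroup (α := Fin n)
  rw [Nat.card_perm, Nat.card_fin] at h
  have h4 : 4 ∣ n.factorial := Nat.dvd_factorial (by norm_num) (by omega)
  omega

end Cfsg.Agent.Fusion91.Alt
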